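import Groth.Agent.IntTh.K712.DivCap
import Groth.Agent.Cyc.K308.RFilt

/-!
# The first Chern class of the ideal of an effective Cartier divisor

`C1_idealMod`: `c_1(I_D) ∩ [X] = -[D]` on an integral scheme.
-/

set_option autoImplicit false

universe u

open CategoryTheory AlgebraicGeometry CategoryTheory.Limits Cyc

namespace Groth.Agent.VBCurve.K323.SubChow

open Groth.Agent Groth.Agent.CycA Groth.Agent.CycB Groth.Agent.CycB.LocQuot
open Groth.Agent.CycA.SectPt Groth.Agent.CycA.FibreLocal
open Groth.Agent.CycB.ModStalk Groth.Agent.CycB.C1Basic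
open K712.DivProd K712.IdealStalk K712.DivCap K308.Grp

variable {X : Scheme.{u}} [IsIntegral X]

theorem delta_le_generic {δ : X → ℤ} (hX : IsDimFun X δ) (x : X) : δ x ≤ δ (genericPoint X) := by
  by_cases hx : genericPoint X = x
  · rw [← hx]
  · exact (hX (genericPoint X) x (genericPoint_specializes x) hx).1.le

open Classical in
theorem fund_apply {δ : X → ℤ} (hX : IsDimFun X δ) (x : X) :
    subschemeFun δ (δ (genericPoint X)) (𝟙 X) x = if x = genericPoint X then 1 else 0 := by
  rw [C1Fin.subschemeFun_id]
  by_cases hx : x = genericPoint X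
  · rw [if_pos hx, hx, if_pos rfl]
    have h1 : Module.length (X.presheaf.stalk (genericPoint X))
        (X.presheaf.stalk (genericPoint X)) = 1 := by
      have : IsSimpleModule X.functionField X.functionField := inferInstance
      exact Module.length_eq_one_iff.2 this
    rw [h1]
    rfl
  · rw [if_neg hx, if_neg]
    intro h
    have := (hX (genericPoint X) x (genericPoint_specializes x) (Ne.symm hx)).1
    omega

theorem exists_gen_one (I : X.IdealSheafData) (hI : PicF.IsInvertible (ClSub.idealMod I)) :
    ∃ T : (ClSub.idealMod I).presheaf.stalk (genericPoint X),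
      IsGen (ClSub.idealMod I) (genericPoint X) T ∧ sval I (genericPoint X) T = 1 := by
  obtain ⟨t, ht⟩ := exists_isGen hI (genericPoint X)
  have h0 : sval I (genericPoint X) t ≠ 0 := sval_ne_zero I ht
  have hf : IsField (X.presheaf.stalk (genericPoint X)) := Field.toIsField X.functionField
  obtain ⟨b, hb⟩ := hf.mul_inv_cancel h0
  have hbu : IsUnit b := IsUnit.of_mul_eq_one _ (by rw [mul_comm]; exact hb)
  refine ⟨b • t, ?_, ?_⟩
  · obtain ⟨u, rfl⟩ := hbu
    exact ht.unit_smul u.isUnit
  · rw [map_smul, smul_eq_mul, mul_comm, hb]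

open Classical in
/-- `c_1(I_D) ∩ [X] = - [D]`. -/
theorem C1_idealMod {δ : X → ℤ} (hX : IsSetup X δ) {Z : Scheme.{u}} (i : Z ⟶ X) [IsClosedImmersion i]
    (hI : PicF.IsInvertible (ClSub.idealMod i.ker)) {α : AlgebraicCycle X ℤ}
    (hα : ⇑α = subschemeFun δ (δ (genericPoint X)) (𝟙 X)) {β : AlgebraicCycle X ℤ} {m : ℤ}
    (hm : m = δ (genericPoint X) - 1)
    (hβ : ⇑β = subschemeFun δ m i) :
    C1 δ (ClSub.idealMod i.ker) (K308.Grp.cl δ α) = - K308.Grp.cl δ β := by
  have := hX.1
  subst hm
  obtain ⟨T, hT, hT1⟩ := exists_gen_one i.ker hI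
  rw [C1_eq hX hI, ← map_neg]
  refine c1_cl hX hI (s := fun ξ => if h : ξ = genericPoint X then
    Groth.Agent.CycB.C1Basic.cl _ ξ (h ▸ T) else 0) (fun ξ hξ => ?_) ?_
  · rw [hα, fund_apply hX.2.2] at hξ
    by_cases h : ξ = genericPoint X
    · subst h
      rw [dif_pos rfl]
      exact cl_ne_zero hT
    · rw [if_neg h] at hξ
      exact absurd rfl hξ
  · funext x
    rw [Function.locallyFinsuppWithin.coe_neg, Pi.neg_apply, hβ, c1CapFun,
      finsum_eq_single _ (genericPoint X)]
    · rw [hα, fund_apply hX.2.2, if_pos rfl, one_mul, dif_pos rfl]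
      by_cases hx : δ x + 1 = δ (genericPoint X)
      · obtain ⟨t, ht⟩ := exists_isGen hI x
        obtain ⟨u, hu⟩ := (ht.stalkSpecializes hI (genericPoint_specializes x)).exists_unit_smul hT
        have h1 : (u : X.presheaf.stalk (genericPoint X)) *
            X.presheaf.stalkSpecializes (genericPoint_specializes x) (sval i.ker x t) = 1 := by
          rw [← hT1, hu, Units.smul_def, map_smul, smul_eq_mul, sval_specializes]
        have h2 : X.residue (genericPoint X) (u : X.presheaf.stalk (genericPoint X)) *
            Cyc.specMap x (genericPoint X) (genericPoint_specializes x) (sval i.ker x t) = 1 := by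
          have := congrArg (X.residue (genericPoint X)) h1
          rw [map_mul, map_one] at this
          exact this
        have h3 : X.residue (genericPoint X) (u : X.presheaf.stalk (genericPoint X)) =
            (Cyc.specMap x (genericPoint X) (genericPoint_specializes x) (sval i.ker x t))⁻¹ :=
          eq_inv_of_mul_eq_one_left h2
        have h4 := genericPoint_val_ne_zero i.ker ht
        have h5 := K712.DivCap.subschemeFun_eq hX.2.2 i.ker hx ht
        have h6 : subschemeFun δ (δ (genericPoint X) - 1) i x =
            subschemeFun δ (δ (genericPoint X) - 1) i.ker.subschemeι x := by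
          rw [subschemeFun_closed δ _ i x (by omega), subschemeFun_closed δ _ i.ker.subschemeι x
            (by omega), Scheme.IdealSheafData.ker_subschemeι]
        change _ = secDivFun δ _ (genericPoint X) (Groth.Agent.CycB.C1Basic.cl _ (genericPoint X) T) x
        rw [h6, h5, Cyc.secDivFun, dif_pos ⟨genericPoint_specializes x, hx⟩, hu, Units.smul_def,
          map_smul, secOrdAt_smul hI (genericPoint_specializes x) ht _
            (by rw [h3]; exact inv_ne_zero h4), h3, C1Basic.ordAt_inv _ h4,
          OrdFrac.divFun_apply δ (genericPoint_specializes x) hx]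
      · rw [Cyc.secDivFun, dif_neg (fun h => hx h.2),
          DivMult.subschemeFun_eq_zero_of_ne i δ _ x (by omega), neg_zero]
    · intro ξ hξ
      rw [hα, fund_apply hX.2.2, if_neg hξ, zero_mul]

end Groth.Agent.VBCurve.K323.SubChow
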