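import Groth.Agent.VBCurve.K323.TautTop

/-!
# From line bundles on the factors to the numerical functionals

`Geo Λ P`: integral functionals on polynomials in `inl (i, N)` (the class of the line bundle `N : Λ`
pulled back from the factor `i`) and `inr (i, j)` (the diagonal), with the restriction rules;
`Geo.toNum : Num (deg ω)`.
-/

set_option autoImplicit false

open MvPolynomial

namespace Groth.Agent.VBCurve.K323.SubAbs

open TautNum

/-- Variables. -/
abbrev W (Λ : Type*) := (ℕ × Λ) ⊕ (ℕ × ℕ)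

variable {Λ P : Type*}

def topW : W Λ → ℕ
  | .inl p => p.1
  | .inr p => max p.1 p.2

def BadW : W Λ → Prop
  | .inl _ => False
  | .inr p => p.2 ≤ p.1

noncomputable def ptS (m : ℕ) (o : Λ) : MvPolynomial (W Λ) ℤ →ₐ[ℤ] MvPolynomial (W Λ) ℤ :=
  aeval fun v => match v with
    | .inl p => if p.1 = m then 0 else X (.inl p)
    | .inr p => if p.2 = m then X (.inl (p.1, o)) else X (.inr p)

noncomputable def dgS (m j : ℕ) (w : Λ) : MvPolynomial (W Λ) ℤ →ₐ[ℤ] MvPolynomial (W Λ) ℤ :=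
  aeval fun v => match v with
    | .inl p => if p.1 = m then X (.inl (j, p.2)) else X (.inl p)
    | .inr p => if p.2 = m then (if p.1 = j then X (.inl (j, w)) else
        X (.inr (min p.1 j, max p.1 j))) else X (.inr p)

variable (Λ P) in
structure Geo where
  deg : Λ → ℤ
  O : P → Λ
  ω : Λ
  J : ℕ → MvPolynomial (W Λ) ℤ →+ ℤ
  deg_O : ∀ x, deg (O x) = 1
  one : J 0 1 = 1
  oor : ∀ (m : ℕ) (v : W Λ) (Q : MvPolynomial (W Λ) ℤ), (m ≤ topW v ∨ BadW v) → J m (X v * Q) = 0
  low : ∀ (m : ℕ) (Q : MvPolynomial (W Λ) ℤ), (∀ v ∈ Q.vars, topW v < m) → J (m + 1) Q = 0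
  pt : ∀ N : Λ, ∃ n : P →₀ ℤ, (n.sum fun _ c => c) = deg N ∧ ∀ (m : ℕ) (Q : MvPolynomial (W Λ) ℤ),
    J (m + 1) (X (.inl (m, N)) * Q) = n.sum fun x c => c * J m (ptS m (O x) Q)
  dg : ∀ (m j : ℕ) (Q : MvPolynomial (W Λ) ℤ), j < m →
    J (m + 1) (X (.inr (j, m)) * Q) = J m (dgS m j ω Q)

namespace Geo

variable (D : Geo Λ P)

/-- numerically trivial polynomials -/
def N (m : ℕ) : Ideal (MvPolynomial (W Λ) ℤ) where
  carrier := {r | ∀ q, D.J m (r * q) = 0}
  add_mem' := by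
    intro a b ha hb q
    rw [add_mul, map_add, ha q, hb q, add_zero]
  zero_mem' := by
    intro q
    rw [zero_mul, map_zero]
  smul_mem' := by
    intro c x hx q
    rw [smul_eq_mul, mul_comm c x, mul_assoc]
    exact hx _

theorem monomial_split (s : W Λ →₀ ℕ) (c : ℤ) (v : W Λ) (hv : v ∈ s.support) :
    monomial s c = (X v : MvPolynomial (W Λ) ℤ) * monomial (s - Finsupp.single v 1) c := by
  rw [X, monomial_mul, one_mul]
  congr 1
  rw [add_comm, tsub_add_cancel_of_le]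
  rw [Finsupp.single_le_iff]
  exact Nat.one_le_iff_ne_zero.mpr (Finsupp.mem_support_iff.mp hv)

theorem monomial_cases (m : ℕ) (s : W Λ →₀ ℕ) :
    (∀ v ∈ s.support, topW v < m) ∨ (∃ v ∈ s.support, m < topW v ∨ BadW v) ∨
      (∃ v ∈ s.support, (∃ N, v = .inl (m, N)) ∨ ∃ i, i < m ∧ v = .inr (i, m)) := by
  by_cases h1 : ∀ v ∈ s.support, topW v < m
  · exact Or.inl h1
  push Not at h1
  obtain ⟨v, hv, hv'⟩ := h1
  rcases lt_or_eq_of_le hv' with h2 | h2
  · exact Or.inr (Or.inl ⟨v, hv, Or.inl h2⟩)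
  · rcases v with ⟨i, N⟩ | ⟨i, j⟩
    · refine Or.inr (Or.inr ⟨_, hv, Or.inl ⟨N, ?_⟩⟩)
      rw [h2]
      rfl
    · by_cases hb : j ≤ i
      · exact Or.inr (Or.inl ⟨_, hv, Or.inr hb⟩)
      · refine Or.inr (Or.inr ⟨_, hv, Or.inr ⟨i, ?_, ?_⟩⟩)
        · rw [h2]
          change i < max i j
          rw [max_eq_right (by omega)]
          omega
        · have : m = j := by
            rw [h2]
            change max i j = j
            exact max_eq_right (by omega)
          rw [this]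

theorem J_low_mul {m : ℕ} {i : ℕ} (hi : i < m) (N : Λ) (s : W Λ →₀ ℕ) (c : ℤ)
    (hs : ∀ v ∈ s.support, topW v < m) : D.J (m + 1) (X (.inl (i, N)) * monomial s c) = 0 := by
  classical
  refine D.low m _ fun v hv => ?_
  have h1 := vars_mul _ _ hv
  rw [Finset.mem_union, vars_X, Finset.mem_singleton] at h1
  rcases h1 with rfl | h1
  · exact hi
  · by_cases hc : c = 0
    · rw [hc] at h1
      simp at h1
    · rw [vars_monomial hc] at h1
      exact hs v h1

theorem ptS_low {m : ℕ} (o : Λ) (s : W Λ →₀ ℕ) (c : ℤ) (hs : ∀ v ∈ s.support, topW v < m) :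
    ptS m o (monomial s c) = monomial s c := by
  rw [ptS, aeval_monomial]
  conv_rhs => rw [monomial_eq]
  congr 1
  refine Finsupp.prod_congr fun v hv => ?_
  have h := hs v hv
  rcases v with ⟨i, N⟩ | ⟨i, j⟩
  · have : i ≠ m := ne_of_lt h
    simp [this]
  · have : j ≠ m := (lt_of_le_of_lt (le_max_right i j) h).ne
    simp [this]

theorem J_C_mul (m : ℕ) (c : ℤ) (Q : MvPolynomial (W Λ) ℤ) : D.J m (C c * Q) = c * D.J m Q := by
  rw [C_mul', map_zsmul, smul_eq_mul]

/-- difference of the classes of a line bundle and the multiple of a point -/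
noncomputable def df (x₀ : P) (i : ℕ) (M : Λ) : MvPolynomial (W Λ) ℤ :=
  X (.inl (i, M)) - C (D.deg M) * X (.inl (i, D.O x₀))

theorem J_df_mul (x₀ : P) (m i : ℕ) (M : Λ) (Q : MvPolynomial (W Λ) ℤ) :
    D.J m (D.df x₀ i M * Q) = D.J m (X (.inl (i, M)) * Q) -
      D.deg M * D.J m (X (.inl (i, D.O x₀)) * Q) := by
  rw [df, sub_mul, map_sub, mul_assoc, J_C_mul]

theorem J_last_low {m : ℕ} (M : Λ) (s : W Λ →₀ ℕ) (c : ℤ)
    (hs : ∀ v ∈ s.support, topW v < m) :
    D.J (m + 1) (X (.inl (m, M)) * monomial s c) = D.deg M * D.J m (monomial s c) := by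
  obtain ⟨n, hn, h⟩ := D.pt M
  rw [h]
  simp only [ptS_low _ s c hs]
  rw [Finsupp.sum, ← Finset.sum_mul, ← hn]
  rfl

theorem ptS_df_lt {m i : ℕ} (x₀ : P) (o : Λ) (hi : i ≠ m) (M : Λ) :
    ptS m o (D.df x₀ i M) = D.df x₀ i M := by
  rw [df, map_sub, map_mul]
  simp [ptS, hi]

theorem ptS_df_self {m : ℕ} (x₀ : P) (o : Λ) (M : Λ) : ptS m o (D.df x₀ m M) = 0 := by
  rw [df, map_sub, map_mul]
  simp [ptS]

theorem dgS_df_lt {m j i : ℕ} (x₀ : P) (w : Λ) (hi : i ≠ m) (M : Λ) :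
    dgS m j w (D.df x₀ i M) = D.df x₀ i M := by
  rw [df, map_sub, map_mul]
  simp [dgS, hi]

theorem dgS_df_self {m j : ℕ} (x₀ : P) (w : Λ) (M : Λ) :
    dgS m j w (D.df x₀ m M) = D.df x₀ j M := by
  rw [df, map_sub, map_mul]
  simp [dgS, df]

theorem df_mem (x₀ : P) (m : ℕ) : ∀ (i : ℕ) (M : Λ), D.df x₀ i M ∈ D.N m := by
  induction m with
  | zero =>
    intro i M q
    rw [J_df_mul, D.oor 0 _ _ (Or.inl (Nat.zero_le _)), D.oor 0 _ _ (Or.inl (Nat.zero_le _)),
      mul_zero, sub_zero]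
  | succ m ih =>
    intro i M
    rcases Nat.lt_or_ge m i with hi | hi
    · intro q
      rw [J_df_mul, D.oor _ _ _ (Or.inl (show m + 1 ≤ topW (.inl (i, M)) from hi)),
        D.oor _ _ _ (Or.inl (show m + 1 ≤ topW (.inl (i, D.O x₀)) from hi)), mul_zero, sub_zero]
    · intro q
      induction q using MvPolynomial.induction_on' with
      | add p q hp hq => rw [mul_add, map_add, hp, hq, add_zero]
      | monomial s c =>
        rcases monomial_cases m s with h | ⟨v, hv, h⟩ | ⟨v, hv, h⟩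
        · rcases lt_or_eq_of_le hi with hi | rfl
          · rw [J_df_mul, D.J_low_mul hi M s c h, D.J_low_mul hi _ s c h, mul_zero, sub_zero]
          · rw [J_df_mul, D.J_last_low M s c h, D.J_last_low _ s c h, D.deg_O, one_mul, sub_self]
        · rw [monomial_split s c v hv, mul_left_comm]
          refine D.oor _ _ _ ?_
          rcases h with h | h
          · exact Or.inl h
          · exact Or.inr h
        · rw [monomial_split s c v hv, mul_left_comm]
          rcases h with ⟨M', rfl⟩ | ⟨j, hj, rfl⟩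
          · obtain ⟨n, -, h⟩ := D.pt M'
            rw [h]
            refine Finset.sum_eq_zero fun x _ => ?_
            dsimp only
            rw [map_mul]
            rcases lt_or_eq_of_le hi with hi | rfl
            · rw [D.ptS_df_lt x₀ _ hi.ne, ih i M, mul_zero]
            · rw [D.ptS_df_self x₀, zero_mul, map_zero, mul_zero]
          · rw [D.dg _ _ _ hj, map_mul]
            rcases lt_or_eq_of_le hi with hi | rfl
            · rw [D.dgS_df_lt x₀ _ hi.ne]
              exact ih i M _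
            · rw [D.dgS_df_self x₀]
              exact ih j M _

theorem mk_eq (x₀ : P) (m i : ℕ) (M : Λ) :
    Ideal.Quotient.mk (D.N m) (X (.inl (i, M))) =
      Ideal.Quotient.mk (D.N m) (C (D.deg M) * X (.inl (i, D.O x₀))) := by
  rw [Ideal.Quotient.mk_eq_mk_iff_sub_mem]
  exact D.df_mem x₀ m i M

theorem J_eq_of_mk {m : ℕ} {p q : MvPolynomial (W Λ) ℤ}
    (h : Ideal.Quotient.mk (D.N m) p = Ideal.Quotient.mk (D.N m) q) : D.J m p = D.J m q := by
  rw [Ideal.Quotient.mk_eq_mk_iff_sub_mem] at h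
  have := h 1
  rw [mul_one, map_sub, sub_eq_zero] at this
  exact this

/-! ### passing to the point class -/

def emb (x₀ : P) : V → W Λ
  | .inl i => .inl (i, D.O x₀)
  | .inr p => .inr p

noncomputable def φ (x₀ : P) : MvPolynomial V ℤ →ₐ[ℤ] MvPolynomial (W Λ) ℤ := rename (D.emb x₀)

noncomputable def ptZ (m : ℕ) : MvPolynomial V ℤ →ₐ[ℤ] MvPolynomial V ℤ :=
  aeval fun v => match v with
    | .inl i => if i = m then 0 else X (.inl i)
    | .inr p => if p.2 = m then X (.inl p.1) else X (.inr p)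

noncomputable def dgZ (κ : ℤ) (m j : ℕ) : MvPolynomial V ℤ →ₐ[ℤ] MvPolynomial V ℤ :=
  aeval fun v => match v with
    | .inl i => if i = m then X (.inl j) else X (.inl i)
    | .inr p => if p.2 = m then (if p.1 = j then C κ * X (.inl j) else
        X (.inr (min p.1 j, max p.1 j))) else X (.inr p)

theorem J_ptS (x₀ x : P) (m : ℕ) (Q : MvPolynomial V ℤ) :
    D.J m (ptS m (D.O x) (D.φ x₀ Q)) = D.J m (D.φ x₀ (ptZ m Q)) := by
  apply D.J_eq_of_mk
  have : ((Ideal.Quotient.mkₐ ℤ (D.N m)).comp (ptS m (D.O x))).comp (D.φ x₀) =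
      ((Ideal.Quotient.mkₐ ℤ (D.N m)).comp (D.φ x₀)).comp (ptZ m) := by
    apply MvPolynomial.algHom_ext
    rintro (i | ⟨i, j⟩)
    · by_cases hi : i = m
      · simp [φ, emb, ptS, ptZ, hi]
      · simp [φ, emb, ptS, ptZ, hi]
    · by_cases hj : j = m
      · have h1 := D.mk_eq x₀ m i (D.O x)
        rw [D.deg_O, map_one, one_mul] at h1
        simpa [φ, emb, ptS, ptZ, hj] using h1
      · simp [φ, emb, ptS, ptZ, hj]
  exact DFunLike.congr_fun this Q

theorem J_dgS (x₀ : P) (m j : ℕ) (Q : MvPolynomial V ℤ) :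
    D.J m (dgS m j D.ω (D.φ x₀ Q)) = D.J m (D.φ x₀ (dgZ (D.deg D.ω) m j Q)) := by
  apply D.J_eq_of_mk
  have : ((Ideal.Quotient.mkₐ ℤ (D.N m)).comp (dgS m j D.ω)).comp (D.φ x₀) =
      ((Ideal.Quotient.mkₐ ℤ (D.N m)).comp (D.φ x₀)).comp (dgZ (D.deg D.ω) m j) := by
    apply MvPolynomial.algHom_ext
    rintro (i | ⟨i, l⟩)
    · by_cases hi : i = m
      · simp [φ, emb, dgS, dgZ, hi]
      · simp [φ, emb, dgS, dgZ, hi]
    · by_cases hl : l = m
      · by_cases hi : i = j
        · have h1 := D.mk_eq x₀ m j D.ω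
          simpa [φ, emb, dgS, dgZ, hl, hi] using h1
        · simp [φ, emb, dgS, dgZ, hl, hi]
      · simp [φ, emb, dgS, dgZ, hl]
  exact DFunLike.congr_fun this Q

end Geo

/-! ### rational coefficients -/

/-- extension of a functional to rational coefficients -/
noncomputable def extQ (f : MvPolynomial V ℤ →+ ℤ) : MvPolynomial V ℚ →ₗ[ℚ] ℚ :=
  (MvPolynomial.basisMonomials V ℚ).constr ℚ fun s => ((f (monomial s 1) : ℤ) : ℚ)

theorem extQ_monomial (f : MvPolynomial V ℤ →+ ℤ) (s : V →₀ ℕ) (c : ℚ) :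
    extQ f (monomial s c) = c * ((f (monomial s 1) : ℤ) : ℚ) := by
  have h1 : (monomial s c : MvPolynomial V ℚ) = c • (monomial s 1 : MvPolynomial V ℚ) := by
    rw [smul_monomial, smul_eq_mul, mul_one]
  have h2 : extQ f (monomial s 1) = ((f (monomial s 1) : ℤ) : ℚ) := by
    have h3 := (MvPolynomial.basisMonomials V ℚ).constr_basis ℚ
      (fun s => ((f (monomial s 1) : ℤ) : ℚ)) s
    rwa [MvPolynomial.coe_basisMonomials] at h3
  rw [h1, map_smul, h2, smul_eq_mul]

theorem extQ_map (f : MvPolynomial V ℤ →+ ℤ) (Q : MvPolynomial V ℤ) :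
    extQ f (map (Int.castRingHom ℚ) Q) = ((f Q : ℤ) : ℚ) := by
  induction Q using MvPolynomial.induction_on' with
  | add p q hp hq => rw [map_add, map_add, hp, hq, map_add, Int.cast_add]
  | monomial s c =>
    rw [map_monomial, extQ_monomial]
    have : (monomial s c : MvPolynomial V ℤ) = c • (monomial s 1 : MvPolynomial V ℤ) := by
      rw [smul_monomial, smul_eq_mul, mul_one]
    rw [this, map_zsmul, smul_eq_mul, Int.cast_mul]
    rfl

theorem lin_ext {f g : MvPolynomial V ℚ →ₗ[ℚ] ℚ}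
    (h : ∀ Q : MvPolynomial V ℤ, f (map (Int.castRingHom ℚ) Q) = g (map (Int.castRingHom ℚ) Q))
    (R : MvPolynomial V ℚ) : f R = g R := by
  have : f = g := by
    refine (MvPolynomial.basisMonomials V ℚ).ext fun s => ?_
    rw [MvPolynomial.coe_basisMonomials]
    have := h (monomial s 1)
    rwa [map_monomial, map_one] at this
  rw [this]

namespace Geo

variable (D : Geo Λ P)

noncomputable def I (x₀ : P) (m : ℕ) : MvPolynomial V ℚ →ₗ[ℚ] ℚ :=
  extQ ((D.J m).comp (D.φ x₀ : MvPolynomial V ℤ →+* MvPolynomial (W Λ) ℤ).toAddMonoidHom)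

theorem I_map (x₀ : P) (m : ℕ) (Q : MvPolynomial V ℤ) :
    D.I x₀ m (map (Int.castRingHom ℚ) Q) = ((D.J m (D.φ x₀ Q) : ℤ) : ℚ) := extQ_map _ _

theorem topW_emb (x₀ : P) (v : V) : topW (D.emb x₀ v) = top v := by
  rcases v with i | p <;> rfl

theorem ptSub_map (m : ℕ) (Q : MvPolynomial V ℤ) :
    ptSub m (map (Int.castRingHom ℚ) Q) = map (Int.castRingHom ℚ) (ptZ m Q) := by
  have : (ptSub m : MvPolynomial V ℚ →+* MvPolynomial V ℚ).comp (map (Int.castRingHom ℚ)) =
      (map (Int.castRingHom ℚ)).comp (ptZ m : MvPolynomial V ℤ →+* MvPolynomial V ℤ) := by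
    apply MvPolynomial.ringHom_ext
    · intro c
      simp
    · rintro (i | ⟨i, j⟩)
      · by_cases hi : i = m
        · simp [ptSub, ptZ, hi]
        · simp [ptSub, ptZ, hi]
      · by_cases hj : j = m
        · simp [ptSub, ptZ, hj, h]
        · simp [ptSub, ptZ, hj]
  exact DFunLike.congr_fun this Q

theorem dgSub_map (κ : ℤ) (m j : ℕ) (Q : MvPolynomial V ℤ) :
    dgSub (κ : ℚ) m j (map (Int.castRingHom ℚ) Q) = map (Int.castRingHom ℚ) (dgZ κ m j Q) := by
  have : (dgSub (κ : ℚ) m j : MvPolynomial V ℚ →+* MvPolynomial V ℚ).comp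
      (map (Int.castRingHom ℚ)) =
      (map (Int.castRingHom ℚ)).comp (dgZ κ m j : MvPolynomial V ℤ →+* MvPolynomial V ℤ) := by
    apply MvPolynomial.ringHom_ext
    · intro c
      simp
    · rintro (i | ⟨i, l⟩)
      · by_cases hi : i = m
        · simp [dgSub, dgZ, hi, h]
        · simp [dgSub, dgZ, hi]
      · by_cases hl : l = m
        · by_cases hi : i = j
          · simp [dgSub, dgZ, hl, hi, h]
          · simp [dgSub, dgZ, hl, hi, δ]
        · simp [dgSub, dgZ, hl]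
  exact DFunLike.congr_fun this Q

theorem I_oor (x₀ : P) (m : ℕ) (v : V) (R : MvPolynomial V ℚ) (hv : m ≤ top v ∨ Bad v) :
    D.I x₀ m (X v * R) = 0 := by
  have key : ∀ R, ((D.I x₀ m).comp (LinearMap.mulLeft ℚ (X v : MvPolynomial V ℚ))) R =
      (0 : MvPolynomial V ℚ →ₗ[ℚ] ℚ) R := by
    refine lin_ext fun Q => ?_
    have h1 : (X v : MvPolynomial V ℚ) * map (Int.castRingHom ℚ) Q =
        map (Int.castRingHom ℚ) (X v * Q) := by
      rw [RingHom.map_mul (map (Int.castRingHom ℚ)), map_X]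
    rw [LinearMap.comp_apply, LinearMap.mulLeft_apply, h1, I_map, map_mul, φ, rename_X, D.oor m]
    · rfl
    · rw [D.topW_emb]
      rcases hv with h | h
      · exact Or.inl h
      · refine Or.inr ?_
        rcases v with i | p
        · exact h.elim
        · exact h
  have := key R
  rwa [LinearMap.comp_apply, LinearMap.mulLeft_apply] at this

theorem I_low (x₀ : P) (m : ℕ) (R : MvPolynomial V ℚ) (hR : ∀ v ∈ R.vars, top v < m) :
    D.I x₀ (m + 1) R = 0 := by
  classical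
  rw [R.as_sum, map_sum]
  refine Finset.sum_eq_zero fun s hs => ?_
  rw [I, extQ_monomial]
  have : D.J (m + 1) (D.φ x₀ (monomial s 1)) = 0 := by
    refine D.low m _ fun w hw => ?_
    have h1 := vars_rename (D.emb x₀) (monomial s (1 : ℤ)) hw
    rw [Finset.mem_image] at h1
    obtain ⟨v, hv, rfl⟩ := h1
    rw [vars_monomial one_ne_zero] at hv
    rw [D.topW_emb]
    exact hR v (mem_vars_iff_mem_support v |>.mpr ⟨s, hs, hv⟩)
  have h2 : ((D.J (m + 1)).comp (D.φ x₀ : MvPolynomial V ℤ →+* MvPolynomial (W Λ) ℤ).toAddMonoidHom)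
      (monomial s 1) = 0 := this
  rw [h2, Int.cast_zero, mul_zero]

theorem J_pt (x₀ : P) (m : ℕ) (Q : MvPolynomial V ℤ) :
    D.J (m + 1) (D.φ x₀ (X (.inl m) * Q)) = D.J m (D.φ x₀ (ptZ m Q)) := by
  rw [map_mul, φ, rename_X, ← φ]
  obtain ⟨n, hn, h3⟩ := D.pt (D.O x₀)
  have h4 := h3 m (D.φ x₀ Q)
  have h5 : (n.sum fun x c => c * D.J m (ptS m (D.O x) (D.φ x₀ Q))) =
      D.J m (D.φ x₀ (ptZ m Q)) := by
    have : ∀ x, D.J m (ptS m (D.O x) (D.φ x₀ Q)) = D.J m (D.φ x₀ (ptZ m Q)) :=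
      fun x => D.J_ptS x₀ x m Q
    simp only [this]
    rw [Finsupp.sum, ← Finset.sum_mul]
    have h6 : ∑ i ∈ n.support, n i = D.deg (D.O x₀) := hn
    rw [h6, D.deg_O, one_mul]
  rw [← h5, ← h4]
  rfl

theorem J_dg (x₀ : P) (m j : ℕ) (hj : j < m) (Q : MvPolynomial V ℤ) :
    D.J (m + 1) (D.φ x₀ (X (.inr (j, m)) * Q)) = D.J m (D.φ x₀ (dgZ (D.deg D.ω) m j Q)) := by
  rw [map_mul, φ, rename_X, ← φ, ← D.J_dgS x₀, ← D.dg m j _ hj]
  rfl

theorem I_pt (x₀ : P) (m : ℕ) (R : MvPolynomial V ℚ) :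
    D.I x₀ (m + 1) (h m * R) = D.I x₀ m (ptSub m R) := by
  have key : ∀ R, ((D.I x₀ (m + 1)).comp (LinearMap.mulLeft ℚ (h m : MvPolynomial V ℚ))) R =
      ((D.I x₀ m).comp (ptSub m).toLinearMap) R := by
    refine lin_ext fun Q => ?_
    have h1 : (h m : MvPolynomial V ℚ) * map (Int.castRingHom ℚ) Q =
        map (Int.castRingHom ℚ) (X (.inl m) * Q) := by
      rw [RingHom.map_mul (map (Int.castRingHom ℚ)), map_X]
      rfl
    rw [LinearMap.comp_apply, LinearMap.mulLeft_apply, LinearMap.comp_apply,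
      AlgHom.toLinearMap_apply, ptSub_map, I_map, h1, I_map, D.J_pt]
  have := key R
  rwa [LinearMap.comp_apply, LinearMap.mulLeft_apply, LinearMap.comp_apply,
    AlgHom.toLinearMap_apply] at this

theorem I_dg (x₀ : P) (m j : ℕ) (hj : j < m) (R : MvPolynomial V ℚ) :
    D.I x₀ (m + 1) (δ j m * R) = D.I x₀ m (dgSub ((D.deg D.ω : ℤ) : ℚ) m j R) := by
  have key : ∀ R, ((D.I x₀ (m + 1)).comp (LinearMap.mulLeft ℚ (δ j m : MvPolynomial V ℚ))) R =
      ((D.I x₀ m).comp (dgSub ((D.deg D.ω : ℤ) : ℚ) m j).toLinearMap) R := by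
    refine lin_ext fun Q => ?_
    have h1 : (δ j m : MvPolynomial V ℚ) * map (Int.castRingHom ℚ) Q =
        map (Int.castRingHom ℚ) (X (.inr (j, m)) * Q) := by
      rw [RingHom.map_mul (map (Int.castRingHom ℚ)), map_X, δ, min_eq_left hj.le,
        max_eq_right hj.le]
    rw [LinearMap.comp_apply, LinearMap.mulLeft_apply, LinearMap.comp_apply,
      AlgHom.toLinearMap_apply, dgSub_map, I_map, h1, I_map, D.J_dg x₀ m j hj]
  have := key R
  rwa [LinearMap.comp_apply, LinearMap.mulLeft_apply, LinearMap.comp_apply,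
    AlgHom.toLinearMap_apply] at this

/-- The numerical functionals. -/
noncomputable def toNum (x₀ : P) : Num ((D.deg D.ω : ℤ) : ℚ) where
  I := D.I x₀
  one := by
    have := D.I_map x₀ 0 1
    rw [map_one (map (Int.castRingHom ℚ)), map_one (D.φ x₀), D.one, Int.cast_one] at this
    exact this
  oor := D.I_oor x₀
  low := D.I_low x₀
  pt := D.I_pt x₀
  dg m j R hj := D.I_dg x₀ m j hj R

end Geo

end Groth.Agent.VBCurve.K323.SubAbs
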