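import Groth.Agent.VBCurve.K323.SubDivCap
import Groth.Agent.VBCurve.K569.SubInv
import Groth.Agent.VBCurve.K226.Pow
import Groth.Agent.VBCurve.K987.SubProd2
import Groth.Agent.IntMult.K304.FlatRel
import Groth.Agent.Cyc.K308.OpPoly
import Groth.Agent.Cyc.K308.DegG
import Groth.Agent.Cyc.K308.Split
import Groth.Agent.Cyc.K308.DegVB

/-!
# Chow groups of integral proper schemes over an algebraically closed field

`dl T` dimension function, `fd T` fundamental class, `dg T` degree; flat pullback `pl f`, push
forward `ps f`; `ps_i`: the class of a graph.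
-/

set_option autoImplicit false

universe u

open CategoryTheory AlgebraicGeometry CategoryTheory.Limits Cyc

namespace Groth.Agent.VBCurve.K323.SubChow

open Groth.Agent Groth.Agent.CycA Groth.Agent.CycB
open K308.Grp K553.Sub

section general

variable {k : Type u} [Field k]

/-- The dimension function. -/
noncomputable def dl (T : Over (Spec (CommRingCat.of k))) [LocallyOfFiniteType T.hom] : T.left → ℤ :=
  (SetupLft.exists_deltaCompat T.hom (fun _ => (0 : ℤ))).choose

variable (T U : Over (Spec (CommRingCat.of k))) [LocallyOfFiniteType T.hom]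
  [LocallyOfFiniteType U.hom]

theorem dl_compat : DeltaCompat T.hom (dl T) (fun _ => 0) :=
  (SetupLft.exists_deltaCompat T.hom (fun _ => (0 : ℤ))).choose_spec

theorem dl_setup : IsSetup T.left (dl T) := SetupField.isSetup_of_field T.hom (dl_compat T)

theorem dl_nonneg (x : T.left) : 0 ≤ dl T x := by
  obtain ⟨n, -, hn⟩ := dl_compat T x
  rw [hn]
  positivity

theorem eq_dl {δ : T.left → ℤ} (hδ : DeltaCompat T.hom δ (fun _ => 0)) : δ = dl T :=
  SetupLft.deltaCompat_unique hδ (dl_compat T)

variable {T U}

theorem dl_map (f : U ⟶ T) : DeltaCompat f.left (dl U) (dl T) := by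
  have h1 : LocallyOfFiniteType (f.left ≫ T.hom) := by
    rw [Over.w]
    infer_instance
  have : LocallyOfFiniteType f.left := locallyOfFiniteType_of_comp f.left T.hom
  refine deltaCompat_of_comp' f.left T.hom ?_ (dl_compat T)
  rw [Over.w]
  exact dl_compat U

theorem isProper_left (f : U ⟶ T) [IsProper U.hom] [IsProper T.hom] : IsProper f.left := by
  have h1 : IsProper (f.left ≫ T.hom) := by
    rw [Over.w]
    infer_instance
  exact IsProper.of_comp f.left T.hom

variable (T)

/-- The dimension. -/
noncomputable def dm [IsIntegral T.left] : ℤ := dl T (genericPoint T.left)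

theorem dm_eq [IsIntegral T.left] {n : ℕ} (h : topologicalKrullDim T.left = n) : dm T = n := by
  obtain ⟨m, h1, h2⟩ := dim_integral T.hom (dl_compat T)
  rw [h] at h2
  have : n = m := by exact_mod_cast h2
  rw [dm, h1, this]

theorem exists_fund [IsIntegral T.left] :
    ∃ α : AlgebraicCycle T.left ℤ, ⇑α = subschemeFun (dl T) (dm T) (𝟙 T.left) := by
  have := (dl_setup T).1
  exact C1Fin.exists_cycle_subschemeFun_id (dl_setup T).2.2 (delta_le_generic (dl_setup T).2.2)

/-- The fundamental cycle. -/
noncomputable def fc [IsIntegral T.left] : AlgebraicCycle T.left ℤ := (exists_fund T).choose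

theorem coe_fc [IsIntegral T.left] : ⇑(fc T) = subschemeFun (dl T) (dm T) (𝟙 T.left) :=
  (exists_fund T).choose_spec

/-- The fundamental class. -/
noncomputable def fd [IsIntegral T.left] : G T.left (dl T) := K308.Grp.cl (dl T) (fc T)

/-- The degree. -/
noncomputable def dg [IsProper T.hom] : G T.left (dl T) →+ ℤ := degG T.hom (dl_setup T) (dl_compat T)

variable {T}

/-- Pushforward. -/
noncomputable def ps [IsProper U.hom] [IsProper T.hom] (f : U ⟶ T) :
    G U.left (dl U) →+ G T.left (dl T) :=
  have := isProper_left f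
  push (dl_setup U) (dl_setup T) f.left (dl_map f)

theorem dg_ps [IsProper U.hom] [IsProper T.hom] (f : U ⟶ T) (a : G U.left (dl U)) :
    dg T (ps f a) = dg U a := by
  have := isProper_left f
  exact degG_push T.hom (dl_setup T) (dl_compat T) U.hom (dl_setup U) (dl_compat U) f.left
    (dl_map f) (Over.w f) a

theorem shift_of_flat [IsIntegral U.left] [IsIntegral T.left] (f : U ⟶ T) (hf : Flat f.left) :
    Shift f.left (dl U) (dl T) (dm U - dm T) := by
  intro x hx
  have h := K304.FlatRel.delta_eq_of_flat f.left (dl_setup U) (dl_setup T) (x := x) hx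
  change dl U x = dl T (f.left x) + (dl U (genericPoint U.left) - dl T (genericPoint T.left))
  omega

/-- Flat pullback. -/
noncomputable def pl [IsIntegral U.left] [IsIntegral T.left] (f : U ⟶ T) (hf : Flat f.left) :
    G T.left (dl T) →+ G U.left (dl U) :=
  pull (dl_setup U) (dl_setup T) f.left (shift_of_flat f hf)

theorem pl_fd [IsIntegral U.left] [IsIntegral T.left] (f : U ⟶ T) (hf : Flat f.left) :
    pl f hf (fd T) = fd U :=
  pull_fund (dl_setup U) (dl_setup T) f.left (shift_of_flat f hf) (by ring) (coe_fc T) (coe_fc U)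

theorem dg_pl [IsIntegral U.left] [IsIntegral T.left] [IsProper U.hom] (f : U ⟶ T)
    (hf : Flat f.left) (hd : dm T < dm U) (a : G T.left (dl T)) : dg U (pl f hf a) = 0 := by
  obtain ⟨α, rfl⟩ := cl_surjective (dl T) a
  have h1 := coe_pullCycle (dl_setup U) f.left (shift_of_flat f hf) α
  change degG U.hom (dl_setup U) (dl_compat U)
    (K308.Grp.cl (dl U) (pullCycle (dl_setup U) f.left (shift_of_flat f hf) α)) = 0
  rw [degG_cl, ChowOps.deg, Push.map_apply]
  refine finsum_mem_eq_zero_of_forall_eq_zero fun x _ => ?_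
  rw [h1, FlatLength.pullFun_apply]
  by_cases hx : dl U x = dl T (f.left x) + (dm U - dm T)
  · have h2 := dl_nonneg T (f.left x)
    have h3 : AlgebraicCycle.mapCoeff U.hom (dl U) (fun _ => (0 : ℤ)) x = 0 := by
      unfold AlgebraicCycle.mapCoeff
      rw [if_neg]
      intro h
      have h' : dl U x = 0 := h
      omega
    rw [h3, Nat.cast_zero, mul_zero]
  · rw [if_neg hx, zero_mul]

theorem pl_C1 [IsIntegral U.left] [IsIntegral T.left] (f : U ⟶ T) (hf : Flat f.left)
    {L : T.left.Modules} (hL : PicF.IsInvertible L) (a : G T.left (dl T)) :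
    pl f hf (C1 (dl T) L a) = C1 (dl U) ((Scheme.Modules.pullback f.left).obj L) (pl f hf a) :=
  pull_C1 (dl_setup U) (dl_setup T) f.left (shift_of_flat f hf) hL a

theorem ps_op [IsProper U.hom] [IsProper T.hom] (f : U ⟶ T) {σ : Type*} (L : σ → T.left.Modules)
    (hL : ∀ s, PicF.IsInvertible (L s)) (p : MvPolynomial σ ℤ) (a : G U.left (dl U)) :
    ps f (op (dl U) (fun s => (Scheme.Modules.pullback f.left).obj (L s)) p a) =
      op (dl T) L p (ps f a) := by
  have := isProper_left f
  exact push_op (dl_setup U) (dl_setup T) f.left (dl_map f) L hL p a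

theorem pl_op [IsIntegral U.left] [IsIntegral T.left] (f : U ⟶ T) (hf : Flat f.left) {σ : Type*}
    (L : σ → T.left.Modules) (hL : ∀ s, PicF.IsInvertible (L s)) (p : MvPolynomial σ ℤ)
    (a : G T.left (dl T)) :
    pl f hf (op (dl T) L p a) =
      op (dl U) (fun s => (Scheme.Modules.pullback f.left).obj (L s)) p (pl f hf a) :=
  pull_op (dl_setup U) (dl_setup T) f.left (shift_of_flat f hf) L hL p a

end general

end Groth.Agent.VBCurve.K323.SubChow
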