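import Groth.Agent.VBCurve.K323.SubChow1

/-!
# Classes of graphs and of fibres on `T × C`
-/

set_option autoImplicit false

universe u

open CategoryTheory AlgebraicGeometry CategoryTheory.Limits Cyc

namespace Groth.Agent.VBCurve.K323.SubChow

open Groth.Agent Groth.Agent.CycA Groth.Agent.CycB
open K308.Grp K553.Sub Groth.Agent.VBCurve.K569.SubInv

variable {k : Type u} [Field k]

instance (C : Over (Spec (CommRingCat.of k))) [IsProper C.hom] (T : Over (Spec (CommRingCat.of k)))
    [IsProper T.hom] : IsProper (TX C T).hom :=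
  inferInstanceAs (IsProper (pullback.fst T.hom C.hom ≫ T.hom))

instance : IsProper (pt (Spec (CommRingCat.of k))).hom :=
  inferInstanceAs (IsProper (𝟙 (Spec (CommRingCat.of k))))

instance : IsIntegral (pt (Spec (CommRingCat.of k))).left :=
  inferInstanceAs (IsIntegral (Spec (CommRingCat.of k)))

theorem compat_pt : DeltaCompat (pt (Spec (CommRingCat.of k))).hom (fun _ => 0) (fun _ => 0) :=
  GysinFib.deltaCompat_closedImmersion (𝟙 (Spec (CommRingCat.of k))) (fun _ => 0)

theorem dl_pt : dl (pt (Spec (CommRingCat.of k))) = fun _ => 0 :=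
  (eq_dl _ compat_pt).symm

theorem dm_pt : dm (pt (Spec (CommRingCat.of k))) = 0 := by
  rw [dm, dl_pt]

theorem dg_pt : dg _ (fd (pt (Spec (CommRingCat.of k)))) = 1 := by
  change degG _ (dl_setup _) (dl_compat _) (K308.Grp.cl (dl _) (fc (pt (Spec (CommRingCat.of k))))) = 1
  have hs : Subsingleton (pt (Spec (CommRingCat.of k))).left :=
    inferInstanceAs (Subsingleton (PrimeSpectrum k))
  rw [degG_cl, ChowOps.deg, Push.map_apply, finsum_mem_def,
    finsum_eq_single _ (genericPoint (pt (Spec (CommRingCat.of k))).left)]
  · have h1 : (pt (Spec (CommRingCat.of k))).hom (genericPoint (pt (Spec (CommRingCat.of k))).left) =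
        IsLocalRing.closedPoint k := Subsingleton.elim (α := PrimeSpectrum k) _ _
    refine (Set.indicator_of_mem (show genericPoint (pt (Spec (CommRingCat.of k))).left ∈
      {x | (pt (Spec (CommRingCat.of k))).hom x = IsLocalRing.closedPoint k} from h1) _).trans ?_
    rw [coe_fc, dm, fund_apply (dl_setup _).2.2, if_pos rfl, one_mul]
    unfold AlgebraicCycle.mapCoeff
    rw [if_pos (by rw [dl_pt])]
    have h2 : (pt (Spec (CommRingCat.of k))).hom.residueDegree
        (genericPoint (pt (Spec (CommRingCat.of k))).left) = 1 := by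
      have : IsClosedImmersion (pt (Spec (CommRingCat.of k))).hom :=
        inferInstanceAs (IsClosedImmersion (𝟙 (Spec (CommRingCat.of k))))
      exact DivNat.residueDegree_eq_one _ _
    rw [h2]
    rfl
  · intro x hx
    exact absurd (hs.elim _ _) hx

section gen

variable (C : Over (Spec (CommRingCat.of k)))
  [IsIntegral C.left] [IsProper C.hom] [Smooth C.hom] (hdim : topologicalKrullDim C.left = 1)
  (T : Over (Spec (CommRingCat.of k))) [IsIntegral T.left] [IsProper T.hom] [IsIntegral (TX C T).left]

/-- The section of `pr` with graph `a`. -/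
noncomputable def gr {C T : Over (Spec (CommRingCat.of k))} (a : T ⟶ C) : T ⟶ TX C T := lft (𝟙 T) a

include hdim in
omit [IsProper C.hom] [IsIntegral T.left] [IsProper T.hom] [IsIntegral (TX C T).left] in
theorem smooth_pr : SmoothOfRelativeDimension 1 (pr C T).left := by
  have h := smooth_one C hdim
  have hst : MorphismProperty.IsStableUnderBaseChange (@SmoothOfRelativeDimension 1) :=
    smoothOfRelativeDimension_isStableUnderBaseChange 1
  exact MorphismProperty.pullback_fst (P := @SmoothOfRelativeDimension 1) _ _ h

include hdim in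
theorem dm_TX : dm (TX C T) = dm T + 1 := by
  have h1 := smooth_pr C hdim T
  have h0 : LocallyOfFiniteType (pr C T).left := inferInstanceAs (LocallyOfFiniteType (pullback.fst T.hom C.hom))
  have h2 : HasRelDim (pr C T).left 1 := K308.PB.hasRelDim_of_smooth (pr C T).left
  have h3 := shift_of_hasRelDim h2 (dl_map (pr C T))
  have hfl : Flat (pr C T).left := inferInstanceAs (Flat (pullback.fst T.hom C.hom))
  have h4 := h3 (genericPoint (TX C T).left) (fun y _ hy =>
    (hy.antisymm (genericPoint_specializes y)).eq)
  rw [dm, h4, K304.FlatRel.map_genericPoint (pr C T).left]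
  rfl

omit [IsIntegral T.left] [IsProper T.hom] [IsIntegral (TX C T).left] [IsIntegral C.left]
  [Smooth C.hom] in
theorem isClosedImmersion_gr (a : T ⟶ C) : IsClosedImmersion (gr a).left := by
  have h0 : IsSeparated (pr C T).left := inferInstanceAs (IsSeparated (pullback.fst T.hom C.hom))
  refine isClosedImmersion_section (pr C T).left (gr a).left ?_
  rw [← Over.comp_left, gr, lft_pr]
  rfl

omit [IsIntegral T.left] [IsProper T.hom] [IsIntegral (TX C T).left] [IsIntegral C.left]
  [Smooth C.hom] [IsProper C.hom] in
theorem isPullback_gr (a : T ⟶ C) : IsPullback a.left (gr a).left (pullback.diagonal C.hom)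
    (pair (pr C T ≫ a) (qr C T)) := by
  have e1 : (gr a).left ≫ (pr C T).left = 𝟙 T.left := by
    rw [← Over.comp_left, gr, lft_pr]
    rfl
  have e2 : (gr a).left ≫ (qr C T).left = a.left := by
    rw [← Over.comp_left, gr, lft_qr]
  have h1 : pair (pr C T ≫ a) (qr C T) ≫ pullback.fst C.hom C.hom = (pr C T).left ≫ a.left :=
    pullback.lift_fst _ _ _
  have h2 : pair (pr C T ≫ a) (qr C T) ≫ pullback.snd C.hom C.hom = (qr C T).left :=
    pullback.lift_snd _ _ _
  refine ⟨⟨?_⟩, ⟨PullbackCone.IsLimit.mk _ (fun s => s.snd ≫ (pr C T).left) ?_ ?_ ?_⟩⟩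
  · apply pullback.hom_ext
    · rw [Category.assoc, Category.assoc, pullback.diagonal_fst, h1, reassoc_of% e1, Category.comp_id]
    · rw [Category.assoc, Category.assoc, pullback.diagonal_snd, h2, e2, Category.comp_id]
  · intro s
    have h3 := congrArg (fun φ => φ ≫ pullback.fst C.hom C.hom) s.condition
    rw [Category.assoc, Category.assoc, pullback.diagonal_fst, h1, Category.comp_id] at h3
    rw [Category.assoc, h3]
  · intro s
    have h3 := congrArg (fun φ => φ ≫ pullback.fst C.hom C.hom) s.condition
    have h4 := congrArg (fun φ => φ ≫ pullback.snd C.hom C.hom) s.condition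
    rw [Category.assoc, Category.assoc, pullback.diagonal_fst, h1, Category.comp_id] at h3
    rw [Category.assoc, Category.assoc, pullback.diagonal_snd, h2, Category.comp_id] at h4
    apply pullback.hom_ext
    · change ((s.snd ≫ (pr C T).left) ≫ (gr a).left) ≫ (pr C T).left = s.snd ≫ (pr C T).left
      rw [Category.assoc, e1, Category.comp_id]
    · change ((s.snd ≫ (pr C T).left) ≫ (gr a).left) ≫ (qr C T).left = s.snd ≫ (qr C T).left
      rw [Category.assoc, e2, Category.assoc, ← h3, h4]
  · intro s m h3 h4
    rw [← h4, Category.assoc, e1, Category.comp_id]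

end gen

section closed

variable [IsAlgClosed k] (C : Over (Spec (CommRingCat.of k)))
  [IsIntegral C.left] [IsProper C.hom] [Smooth C.hom] (hdim : topologicalKrullDim C.left = 1)
  (T : Over (Spec (CommRingCat.of k))) [IsIntegral T.left] [IsProper T.hom] [IsIntegral (TX C T).left]

include hdim in
/-- The class of a graph. -/
theorem C1_D (a : T ⟶ C) : C1 (dl (TX C T)) (D (pr C T ≫ a) (qr C T)) (fd (TX C T)) =
    - ps (gr a) (fd T) := by
  have hcl := isClosedImmersion_gr C T a
  have hsm := smooth_pr C hdim T
  have e1 : (gr a).left ≫ (pr C T).left = 𝟙 T.left := by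
    rw [← Over.comp_left, gr, lft_pr]
    rfl
  have h1 := isEff_section (pr C T).left (gr a).left e1
  have h2 : (pullback.diagonal C.hom).ker.comap (pair (pr C T ≫ a) (qr C T)) = (gr a).left.ker :=
    (Picfga.SecGraph.ker_eq_comap_of_isPullback (isPullback_gr C T a)).symm
  have h3 := Dix.IdealModCartier.pullback_idealMod (pair (pr C T ≫ a) (qr C T)) (isEff_diag C hdim)
    (by rw [h2]; exact h1)
  rw [h2] at h3
  obtain ⟨e⟩ := h3
  have h4 : C1 (dl (TX C T)) (D (pr C T ≫ a) (qr C T)) =
      C1 (dl (TX C T)) (ClSub.idealMod (gr a).left.ker) := C1_congr _ e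
  rw [h4]
  exact C1_idealMod (dl_setup (TX C T)) (gr a).left
    (Dix.IdealModCartier.isInvertible_idealMod h1) (coe_fc (TX C T)) (m := dm T)
    (by rw [← dm, dm_TX C hdim T]; ring)
    (map_fund (gr a).left (dl_map (gr a)) (coe_fc T))

omit [IsAlgClosed k] [IsIntegral C.left] [Smooth C.hom] [IsIntegral T.left] [IsProper T.hom]
  [IsIntegral (TX C T).left] in
theorem qc_left (x : pt (Spec (CommRingCat.of k)) ⟶ C) : QuasiCompact x.left :=
  have := isProper_left x
  inferInstance

open Classical in
/-- the pushforward of the point -/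
theorem coe_map_pt (x : pt (Spec (CommRingCat.of k)) ⟶ C) (y : C.left) :
    (haveI := qc_left C x
    AlgebraicCycle.map x.left (dl _) (dl C) (fc (pt (Spec (CommRingCat.of k))))) y =
      if y = atp x then 1 else 0 := by
  have hx : x.left ≫ C.hom = 𝟙 _ := Over.w x
  have hcl := isClosedImmersion_section C.hom x.left hx
  have hps := isProper_left x
  rw [map_fund x.left (dl_map x) (coe_fc _), dm_pt]
  by_cases h : y = atp x
  · rw [if_pos h, h]
    have h0 : dl C (atp x) = 0 := by
      obtain ⟨n, -, -⟩ := dl_map x (IsLocalRing.closedPoint k)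
      have h5 := SetupLft.deltaCompat_unique (dl_map x)
        (GysinFib.deltaCompat_closedImmersion x.left (dl C))
      have h6 := congrFun h5 (IsLocalRing.closedPoint k)
      rw [dl_pt] at h6
      exact h6.symm
    have h7 := C1Fin.subschemeFun_apply_of_injective x.left x.left.isClosedEmbedding.injective
      (dl C) 0 (IsLocalRing.closedPoint k)
    refine h7.trans ?_
    rw [C1Fin.subschemeFun_id]
    refine (if_pos h0).trans ?_
    have h8 : (IsLocalRing.closedPoint k : PrimeSpectrum k) =
      genericPoint (Spec (CommRingCat.of k)) := Subsingleton.elim (α := PrimeSpectrum k) _ _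
    have h9 : Module.length ((Spec (CommRingCat.of k)).presheaf.stalk
        (genericPoint (Spec (CommRingCat.of k))))
        ((Spec (CommRingCat.of k)).presheaf.stalk (genericPoint (Spec (CommRingCat.of k)))) = 1 := by
      have : IsSimpleModule (Spec (CommRingCat.of k)).functionField
        (Spec (CommRingCat.of k)).functionField := inferInstance
      exact Module.length_eq_one_iff.2 this
    change ((Module.length ((Spec (CommRingCat.of k)).presheaf.stalk (IsLocalRing.closedPoint k))
      ((Spec (CommRingCat.of k)).presheaf.stalk (IsLocalRing.closedPoint k))).toNat : ℤ) = 1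
    rw [h8, h9]
    rfl
  · rw [if_neg h]
    refine C1Fin.subschemeFun_apply_notMem x.left (dl C) 0 y ?_
    rintro ⟨z, rfl⟩
    exact h (congrArg x.left (Subsingleton.elim (α := PrimeSpectrum k) z (IsLocalRing.closedPoint k)))

end closed

end Groth.Agent.VBCurve.K323.SubChow
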