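import Groth.Agent.VBCurve.K323.SubChow2
import Groth.Agent.VBCurve.K323.SubAbs
import Groth.Agent.VBCurve.K471.SubD
import Groth.Agent.PicF.K246.Basic
import Groth.Agent.Cyc.K308.C1Tensor

/-!
# The numerical functionals on the powers of a curve
-/

set_option autoImplicit false

universe u

open CategoryTheory AlgebraicGeometry CategoryTheory.Limits Cyc

namespace Groth.Agent.VBCurve.K323.SubChow

open Groth.Agent Groth.Agent.CycA Groth.Agent.CycB
open K308.Grp K553.Sub Groth.Agent.VBCurve.K569.SubInv SubAbs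

/-- Invertible modules on a scheme with one point are trivial. -/
theorem nonempty_triv {T : Scheme.{u}} [Subsingleton T] (x : T) {M : T.Modules}
    (hM : PicF.IsInvertible M) : Nonempty (M ≅ Coh.structureModule T) := by
  obtain ⟨U, m, hx, hm⟩ := (Fdesc.LocGen.isInvertible_iff M).1 hM x
  obtain rfl : U = ⊤ := by
    rw [eq_top_iff]
    intro y _
    rwa [Subsingleton.elim y x]
  exact K246.Basic.nonempty_iso_of_isGen_top hm

/-- signs -/
noncomputable def sgn {Λ : Type*} : MvPolynomial (W Λ) ℤ →ₐ[ℤ] MvPolynomial (W Λ) ℤ :=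
  MvPolynomial.aeval fun v => match v with
    | .inl p => MvPolynomial.X (.inl p)
    | .inr p => - MvPolynomial.X (.inr p)

section op

variable {X : Scheme.{u}} {Λ : Type*}

/-- operators of polynomials with signs -/
noncomputable def ops (δ : X → ℤ) (L : W Λ → X.Modules) :
    MvPolynomial (W Λ) ℤ →+* AddMonoid.End (G X δ) := (op δ L).comp sgn.toRingHom

theorem ops_apply (δ : X → ℤ) (L : W Λ → X.Modules) (Q : MvPolynomial (W Λ) ℤ) :
    ops δ L Q = op δ L (sgn Q) := rfl

/-- value on a variable -/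
noncomputable def vl (δ : X → ℤ) (L : W Λ → X.Modules) : W Λ → AddMonoid.End (G X δ)
  | .inl p => C1 δ (L (.inl p))
  | .inr p => - C1 δ (L (.inr p))

theorem ops_X (δ : X → ℤ) (L : W Λ → X.Modules) (v : W Λ) :
    ops δ L (MvPolynomial.X v) = vl δ L v := by
  rw [ops_apply, sgn, MvPolynomial.aeval_X]
  rcases v with p | p
  · exact op_X δ L _
  · change op δ L (- MvPolynomial.X (.inr p)) = - C1 δ (L (.inr p))
    rw [map_neg, op_X]

theorem ops_mul_apply (δ : X → ℤ) (L : W Λ → X.Modules) (p q : MvPolynomial (W Λ) ℤ) (a : G X δ) :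
    ops δ L (p * q) a = ops δ L q (ops δ L p a) := by
  rw [mul_comm, map_mul]
  rfl

/-- comparison of substitutions -/
theorem ops_subst (δ : X → ℤ) (L L' : W Λ → X.Modules)
    (s : MvPolynomial (W Λ) ℤ →ₐ[ℤ] MvPolynomial (W Λ) ℤ)
    (h : ∀ v, vl δ L v = ops δ L' (s (MvPolynomial.X v))) (Q : MvPolynomial (W Λ) ℤ) :
    ops δ L Q = ops δ L' (s Q) := by
  have : ops δ L = (ops δ L').comp s.toRingHom := by
    apply MvPolynomial.ringHom_ext
    · intro n
      rw [eq_intCast (MvPolynomial.C : ℤ →+* MvPolynomial (W Λ) ℤ), map_intCast, map_intCast]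
    · intro v
      rw [ops_X, h]
      rfl
  rw [this]
  rfl

theorem ops_congr (δ : X → ℤ) (L L' : W Λ → X.Modules) (Q : MvPolynomial (W Λ) ℤ)
    (h : ∀ v ∈ Q.vars, C1 δ (L v) = C1 δ (L' v)) : ops δ L Q = ops δ L' Q := by
  have key : ((opR δ L).comp sgn) Q = ((opR δ L').comp sgn) Q := by
    refine MvPolynomial.hom_congr_vars (f₁ := ((opR δ L).comp sgn).toRingHom)
      (f₂ := ((opR δ L').comp sgn).toRingHom) ?_ ?_ rfl
    · refine RingHom.ext fun n => ?_
      simp
    · intro v hv _
      have h1 : c1R δ (L v) = c1R δ (L' v) := Subtype.ext (h v hv)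
      rcases v with p | p
      · simpa [sgn, opR] using h1
      · simpa [sgn, opR] using h1
  exact congrArg Subtype.val key

end op

section defs

variable {k : Type u} [Field k] (C : Over (Spec (CommRingCat.of k)))

/-- line bundles -/
abbrev LB := {N : C.left.Modules // PicF.IsInvertible N}

/-- The modules on the power `C^m`. -/
noncomputable def md (m : ℕ) : W (LB C) → (Pw C m).left.Modules
  | .inl p => if h : p.1 < m then
      (Scheme.Modules.pullback (crd C m ⟨p.1, h⟩).left).obj p.2.1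
      else Coh.structureModule _
  | .inr p => if h : p.1 < p.2 ∧ p.2 < m then D (crd C m ⟨p.1, h.1.trans h.2⟩) (crd C m ⟨p.2, h.2⟩)
      else Coh.structureModule _

theorem md_inl {m i : ℕ} (h : i < m) (N : LB C) :
    md C m (.inl (i, N)) = (Scheme.Modules.pullback (crd C m ⟨i, h⟩).left).obj N.1 := dif_pos h

theorem md_inl_ge {m i : ℕ} (h : m ≤ i) (N : LB C) :
    md C m (.inl (i, N)) = Coh.structureModule _ := dif_neg (by simpa using h)

theorem md_inr {m i j : ℕ} (hi : i < j) (hj : j < m) :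
    md C m (.inr (i, j)) = D (crd C m ⟨i, hi.trans hj⟩) (crd C m ⟨j, hj⟩) := dif_pos ⟨hi, hj⟩

theorem md_inr_not {m i j : ℕ} (h : ¬ (i < j ∧ j < m)) :
    md C m (.inr (i, j)) = Coh.structureModule _ := dif_neg h

theorem md_oor {m : ℕ} {v : W (LB C)} (h : m ≤ topW v ∨ BadW v) :
    md C m v = Coh.structureModule _ := by
  rcases v with ⟨i, N⟩ | ⟨i, j⟩
  · rcases h with h | h
    · exact md_inl_ge C h N
    · exact h.elim
  · refine md_inr_not C fun hh => ?_
    rcases h with h | h
    · have : max i j < m := max_lt (hh.1.trans hh.2) hh.2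
      exact absurd h (by
        change ¬ m ≤ max i j
        omega)
    · have h' : j ≤ i := h
      omega

end defs

section insts

variable {k : Type u} [Field k] [IsAlgClosed k] (C : Over (Spec (CommRingCat.of k)))
  [IsIntegral C.left] [IsProper C.hom] [Smooth C.hom]

instance isIntegral_Pw' (n : ℕ) : IsIntegral (Pw C n).left := K226.Pow.isIntegral_Pw C n

instance isIntegral_TX_Pw (n : ℕ) : IsIntegral (TX C (Pw C n)).left :=
  K226.Pow.isIntegral_Pw C (n + 1)

omit [IsAlgClosed k] [IsIntegral C.left] in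
instance isProper_Pw' (n : ℕ) : IsProper (Pw C n).hom := (K226.Pow.smooth_proper C n).2

end insts

section J

variable {k : Type u} [Field k] [IsAlgClosed k] (C : Over (Spec (CommRingCat.of k)))
  [IsIntegral C.left] [IsProper C.hom] [Smooth C.hom] (hdim : topologicalKrullDim C.left = 1)

include hdim in
omit [IsIntegral C.left] [IsProper C.hom] [Smooth C.hom] in
theorem inv_md [IsIntegral C.left] [IsProper C.hom] [Smooth C.hom] (m : ℕ) (v : W (LB C)) :
    PicF.IsInvertible (md C m v) := by
  rcases v with ⟨i, N⟩ | ⟨i, j⟩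
  · by_cases h : i < m
    · rw [md_inl C h]
      exact Fdesc.LocGen.isInvertible_pullback _ N.2
    · rw [md_inl_ge C (by omega)]
      exact isInvertible_structureModule _
  · by_cases h : i < j ∧ j < m
    · rw [md_inr C h.1 h.2]
      exact isInvertible_D C hdim _ _
    · rw [md_inr_not C h]
      exact isInvertible_structureModule _

/-- The numerical functional. -/
noncomputable def J (m : ℕ) : MvPolynomial (W (LB C)) ℤ →+ ℤ :=
  AddMonoidHom.mk' (fun Q => dg (Pw C m) (ops (dl (Pw C m)) (md C m) Q (fd (Pw C m)))) (by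
    intro p q
    rw [map_add]
    exact map_add (dg (Pw C m)) _ _)

theorem J_apply (m : ℕ) (Q : MvPolynomial (W (LB C)) ℤ) :
    J C m Q = dg (Pw C m) (ops (dl (Pw C m)) (md C m) Q (fd (Pw C m))) := rfl

theorem J_one : J C 0 1 = 1 := by
  rw [J_apply, map_one]
  exact dg_pt

theorem J_oor (m : ℕ) (v : W (LB C)) (Q : MvPolynomial (W (LB C)) ℤ) (hv : m ≤ topW v ∨ BadW v) :
    J C m (MvPolynomial.X v * Q) = 0 := by
  have h0 : vl (dl (Pw C m)) (md C m) v = 0 := by
    have h1 : C1 (dl (Pw C m)) (md C m v) = 0 := by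
      rw [md_oor C hv]
      exact C1_structure (dl_setup _)
    rcases v with p | p
    · exact h1
    · change - C1 (dl (Pw C m)) (md C m (.inr p)) = 0
      rw [h1, neg_zero]
  rw [J_apply, ops_mul_apply, ops_X, h0]
  change dg (Pw C m) (ops (dl (Pw C m)) (md C m) Q 0) = 0
  rw [map_zero, map_zero]

/-- pushing forward along a graph -/
theorem dg_ops_ps (m : ℕ) (a : Pw C m ⟶ C) (Q : MvPolynomial (W (LB C)) ℤ)
    (s : MvPolynomial (W (LB C)) ℤ →ₐ[ℤ] MvPolynomial (W (LB C)) ℤ)
    (h : ∀ v, vl (dl (Pw C m))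
      (fun v => (Scheme.Modules.pullback (gr a).left).obj (md C (m + 1) v)) v =
      ops (dl (Pw C m)) (md C m) (s (MvPolynomial.X v))) (hinv : ∀ v, PicF.IsInvertible (md C (m + 1) v)) :
    dg (Pw C (m + 1)) (ops (dl (Pw C (m + 1))) (md C (m + 1)) Q
      (ps (T := TX C (Pw C m)) (gr a) (fd (Pw C m)))) = J C m (s Q) := by
  have h1 := ps_op (U := Pw C m) (T := TX C (Pw C m)) (gr a) (md C (m + 1)) hinv (sgn Q)
    (fd (Pw C m))
  have h2 := ops_subst (dl (Pw C m))
    (fun v => (Scheme.Modules.pullback (gr a).left).obj (md C (m + 1) v)) (md C m) s h Q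
  change dg (TX C (Pw C m)) (op (dl (TX C (Pw C m))) (md C (m + 1)) (sgn Q)
    (ps (T := TX C (Pw C m)) (gr a) (fd (Pw C m)))) = _
  rw [← h1, dg_ps, J_apply, ← h2]
  rfl

end J

end Groth.Agent.VBCurve.K323.SubChow
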