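import Groth.Agent.VBCurve.K323.SubChow3

/-!
# The restriction rules of the numerical functionals on the powers of a curve
-/

set_option autoImplicit false

universe u

open CategoryTheory AlgebraicGeometry CategoryTheory.Limits Cyc

namespace Groth.Agent.VBCurve.K323.SubChow

open Groth.Agent Groth.Agent.CycA Groth.Agent.CycB
open K308.Grp K553.Sub Groth.Agent.VBCurve.K569.SubInv SubAbs

variable {k : Type u} [Field k]

section congr

variable {C : Over (Spec (CommRingCat.of k))}

theorem C1_pull_comp {U T : Over (Spec (CommRingCat.of k))} (δ : U.left → ℤ) (f : U ⟶ T) (a : T ⟶ C)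
    (b : U ⟶ C) (h : f ≫ a = b) (N : C.left.Modules) :
    C1 δ ((Scheme.Modules.pullback f.left).obj ((Scheme.Modules.pullback a.left).obj N)) =
      C1 δ ((Scheme.Modules.pullback b.left).obj N) := by
  subst h
  exact C1_congr _ ((Scheme.Modules.pullbackComp f.left a.left).app N)

theorem C1_pull_D {U T : Over (Spec (CommRingCat.of k))} (δ : U.left → ℤ) (f : U ⟶ T) (a b : T ⟶ C)
    (a' b' : U ⟶ C) (ha : f ≫ a = a') (hb : f ≫ b = b') :
    C1 δ ((Scheme.Modules.pullback f.left).obj (D a b)) = C1 δ (D a' b') := by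
  subst ha
  subst hb
  obtain ⟨e, -⟩ := nonempty_D_pull f a b
  exact C1_congr _ e

theorem C1_pull_O {X Y : Scheme.{u}} {δ : X → ℤ} (hX : IsSetup X δ) (f : X ⟶ Y) :
    C1 δ ((Scheme.Modules.pullback f).obj (Coh.structureModule Y)) = 0 := by
  rw [C1_congr δ (Groth.Agent.Krr.H482.PullTens.pullUnitIso f), C1_structure hX]

theorem C1_pull_inv {X Y : Scheme.{u}} {δ : X → ℤ} (hX : IsSetup X δ) (f : X ⟶ Y) {L M : Y.Modules}
    (hL : PicF.IsInvertible L) (hM : PicF.IsInvertible M)
    (e : CohB1.tensorMod L M ≅ Coh.structureModule Y) :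
    C1 δ ((Scheme.Modules.pullback f).obj M) = - C1 δ ((Scheme.Modules.pullback f).obj L) :=
  C1_of_tensor_iso hX (Fdesc.LocGen.isInvertible_pullback f hL)
    (Fdesc.LocGen.isInvertible_pullback f hM)
    ((Groth.Agent.Krr.H482.PullTens.pullTensorIso f L M).symm ≪≫
      (Scheme.Modules.pullback f).mapIso e ≪≫ Groth.Agent.Krr.H482.PullTens.pullUnitIso f)

theorem C1_D_symm {T : Over (Spec (CommRingCat.of k))} (δ : T.left → ℤ) (a b : T ⟶ C) :
    C1 δ (D a b) = C1 δ (D b a) := by
  obtain ⟨e⟩ := nonempty_D_symm a b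
  exact C1_congr _ e

end congr

section J

variable [IsAlgClosed k] (C : Over (Spec (CommRingCat.of k)))
  [IsIntegral C.left] [IsProper C.hom] [Smooth C.hom] (hdim : topologicalKrullDim C.left = 1)

theorem crd_lt (m i : ℕ) (hi : i < m) :
    (crd C (m + 1) ⟨i, Nat.lt_succ_of_lt hi⟩ : TX C (Pw C m) ⟶ C) =
      pr C (Pw C m) ≫ crd C m ⟨i, hi⟩ := K226.Pow.crd_castSucc C m ⟨i, hi⟩

theorem crd_self (m : ℕ) :
    (crd C (m + 1) ⟨m, Nat.lt_succ_self m⟩ : TX C (Pw C m) ⟶ C) = qr C (Pw C m) :=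
  K226.Pow.crd_last C m

theorem gr_crd_lt (m i : ℕ) (hi : i < m) (a : Pw C m ⟶ C) :
    gr a ≫ (crd C (m + 1) ⟨i, Nat.lt_succ_of_lt hi⟩ : TX C (Pw C m) ⟶ C) = crd C m ⟨i, hi⟩ := by
  rw [crd_lt, gr, lft_pr_assoc, Category.id_comp]

theorem gr_crd_self (m : ℕ) (a : Pw C m ⟶ C) :
    gr a ≫ (crd C (m + 1) ⟨m, Nat.lt_succ_self m⟩ : TX C (Pw C m) ⟶ C) = a := by
  rw [crd_self, gr, lft_qr]

/-- the chosen inverse of an invertible module -/
noncomputable def invL {C : Over (Spec (CommRingCat.of k))} (N : C.left.Modules)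
    (hN : PicF.IsInvertible N) : LB C :=
  ⟨Groth.Agent.Grpsch.PicGrp.dual N, Groth.Agent.Grpsch.PicGrp.isInvertible_dual hN⟩

theorem C1_pull_invL {X : Scheme.{u}} {δ : X → ℤ} (hX : IsSetup X δ)
    {C : Over (Spec (CommRingCat.of k))} (f : X ⟶ C.left) (N : C.left.Modules)
    (hN : PicF.IsInvertible N) :
    C1 δ ((Scheme.Modules.pullback f).obj (invL N hN).1) =
      - C1 δ ((Scheme.Modules.pullback f).obj N) :=
  C1_pull_inv hX f hN (invL N hN).2
    (@asIso _ _ _ _ (Groth.Agent.Grpsch.PicGrp.ev N) (Groth.Agent.Grpsch.PicGrp.isIso_ev hN))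

/-- The bundle of a point. -/
noncomputable def Opt (x : pt (Spec (CommRingCat.of k)) ⟶ C) : LB C :=
  invL (D (𝟙 C) (cst x)) (isInvertible_D C hdim _ _)

/-- The tangent bundle. -/
noncomputable def tgt : LB C := invL (D (𝟙 C) (𝟙 C)) (isInvertible_D C hdim _ _)

theorem hom_pt_ext {T : Over (Spec (CommRingCat.of k))} (f g : T ⟶ pt (Spec (CommRingCat.of k))) :
    f = g := by
  ext1
  have h1 : f.left ≫ 𝟙 _ = T.hom := Over.w f
  have h2 : g.left ≫ 𝟙 _ = T.hom := Over.w g
  rw [Category.comp_id] at h1 h2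
  rw [h1, h2]

/-- restriction of the modules to a graph -/
noncomputable def rs (m : ℕ) (a : Pw C m ⟶ C) (v : W (LB C)) : (Pw C m).left.Modules :=
  (Scheme.Modules.pullback (gr a).left).obj (md C (m + 1) v)

theorem C1_rs_inl_lt {m : ℕ} (a : Pw C m ⟶ C) {i : ℕ} (hi : i < m) (N : LB C) :
    C1 (dl (Pw C m)) (rs C m a (.inl (i, N))) =
      C1 (dl (Pw C m)) ((Scheme.Modules.pullback (crd C m ⟨i, hi⟩).left).obj N.1) := by
  rw [rs, md_inl C (Nat.lt_succ_of_lt hi)]
  exact C1_pull_comp _ (gr a) _ _ (gr_crd_lt C m i hi a) _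

theorem C1_rs_inl_self {m : ℕ} (a : Pw C m ⟶ C) (N : LB C) :
    C1 (dl (Pw C m)) (rs C m a (.inl (m, N))) =
      C1 (dl (Pw C m)) ((Scheme.Modules.pullback a.left).obj N.1) := by
  rw [rs, md_inl C (Nat.lt_succ_self m)]
  exact C1_pull_comp _ (gr a) _ _ (gr_crd_self C m a) _

theorem C1_rs_inr_lt {m : ℕ} (a : Pw C m ⟶ C) {i j : ℕ} (hij : i < j) (hj : j < m) :
    C1 (dl (Pw C m)) (rs C m a (.inr (i, j))) =
      C1 (dl (Pw C m)) (D (crd C m ⟨i, hij.trans hj⟩) (crd C m ⟨j, hj⟩)) := by
  rw [rs, md_inr C hij (Nat.lt_succ_of_lt hj)]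
  exact C1_pull_D _ (gr a) _ _ _ _ (gr_crd_lt C m i (hij.trans hj) a) (gr_crd_lt C m j hj a)

theorem C1_rs_inr_self {m : ℕ} (a : Pw C m ⟶ C) {i : ℕ} (hi : i < m) :
    C1 (dl (Pw C m)) (rs C m a (.inr (i, m))) =
      C1 (dl (Pw C m)) (D (crd C m ⟨i, hi⟩) a) := by
  rw [rs, md_inr C hi (Nat.lt_succ_self m)]
  exact C1_pull_D _ (gr a) _ _ _ _ (gr_crd_lt C m i hi a) (gr_crd_self C m a)

theorem C1_rs_oor {m : ℕ} (a : Pw C m ⟶ C) {v : W (LB C)} (hv : m < topW v ∨ BadW v) :
    C1 (dl (Pw C m)) (rs C m a v) = 0 := by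
  rw [rs, md_oor C (m := m + 1) (by
      rcases hv with h | h
      · exact Or.inl h
      · exact Or.inr h)]
  exact C1_pull_O (dl_setup _) _

/-- values on the variables, restriction to a graph, low variables -/
theorem vl_low (m : ℕ) (a : Pw C m ⟶ C) {v : W (LB C)} (hv : topW v < m) :
    vl (dl (Pw C m)) (rs C m a) v = vl (dl (Pw C m)) (md C m) v := by
  rcases v with ⟨i, N⟩ | ⟨i, j⟩
  · have hi : i < m := hv
    change C1 _ (rs C m a (.inl (i, N))) = C1 _ (md C m (.inl (i, N)))
    rw [C1_rs_inl_lt C a hi, md_inl C hi]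
  · have hij : max i j < m := hv
    have hi : i < m := by omega
    have hj : j < m := by omega
    change - C1 _ (rs C m a (.inr (i, j))) = - C1 _ (md C m (.inr (i, j)))
    by_cases h : i < j
    · rw [C1_rs_inr_lt C a h hj, md_inr C h hj]
    · rw [md_inr_not C (fun hh => h hh.1), C1_structure (dl_setup _),
        C1_rs_oor C a (Or.inr (show BadW (.inr (i, j)) from by
          change j ≤ i
          omega))]

theorem vl_high (m : ℕ) (a : Pw C m ⟶ C) {v : W (LB C)} (hv : m < topW v ∨ BadW v) :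
    vl (dl (Pw C m)) (rs C m a) v = 0 := by
  have h0 := C1_rs_oor C a hv
  rcases v with p | p
  · exact h0
  · change - C1 _ _ = 0
    rw [h0, neg_zero]

theorem vl_oor (m : ℕ) {v : W (LB C)} (hv : m ≤ topW v ∨ BadW v) :
    vl (dl (Pw C m)) (md C m) v = 0 := by
  have h1 : C1 (dl (Pw C m)) (md C m v) = 0 := by
    rw [md_oor C hv]
    exact C1_structure (dl_setup _)
  rcases v with p | p
  · exact h1
  · change - C1 (dl (Pw C m)) (md C m (.inr p)) = 0
    rw [h1, neg_zero]

/-- low or out of range -/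
theorem vl_lo (m : ℕ) (a : Pw C m ⟶ C) {v : W (LB C)} (hv : topW v ≠ m ∨ BadW v) :
    vl (dl (Pw C m)) (rs C m a) v = vl (dl (Pw C m)) (md C m) v := by
  by_cases h : topW v < m
  · exact vl_low C m a h
  · by_cases hb : BadW v
    · rw [vl_high C m a (Or.inr hb), vl_oor C m (Or.inr hb)]
    · have h1 : m < topW v := by
        rcases hv with h' | h'
        · omega
        · exact absurd h' hb
      rw [vl_high C m a (Or.inl h1), vl_oor C m (Or.inl h1.le)]

/-- The rule for the diagonals, on variables. -/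
theorem vl_dg (m j : ℕ) (hj : j < m) (v : W (LB C)) :
    vl (dl (Pw C m)) (rs C m (crd C m ⟨j, hj⟩)) v =
      ops (dl (Pw C m)) (md C m) (dgS m j (tgt C hdim) (MvPolynomial.X v)) := by
  rcases v with ⟨i, N⟩ | ⟨i, l⟩
  · rw [dgS, MvPolynomial.aeval_X]
    dsimp only
    by_cases hi : i = m
    · subst hi
      rw [if_pos rfl, ops_X]
      change C1 _ (rs C i _ (.inl (i, N))) = C1 _ (md C i (.inl (j, N)))
      rw [md_inl C hj, C1_rs_inl_self]
    · rw [if_neg hi, ops_X]
      exact vl_lo C m _ (Or.inl hi)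
  · rw [dgS, MvPolynomial.aeval_X]
    dsimp only
    by_cases hl : l = m
    · subst hl
      rw [if_pos rfl]
      by_cases hi : i = j
      · subst hi
        rw [if_pos rfl, ops_X]
        change - C1 _ (rs C l _ (.inr (i, l))) = C1 _ (md C l (.inl (i, tgt C hdim)))
        rw [md_inl C hj, tgt, C1_pull_invL (dl_setup _), C1_rs_inr_self C _ hj,
          C1_pull_D _ (crd C l ⟨i, hj⟩) _ _ _ _ (Category.comp_id _) (Category.comp_id _)]
      · rw [if_neg hi, ops_X]
        by_cases hil : i < l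
        · change - C1 _ (rs C l _ (.inr (i, l))) = - C1 _ (md C l (.inr (min i j, max i j)))
          rw [C1_rs_inr_self C _ hil]
          rcases Nat.lt_or_gt_of_ne hi with h | h
          · have e1 : min i j = i := min_eq_left h.le
            have e2 : max i j = j := max_eq_right h.le
            rw [e1, e2, md_inr C h hj]
          · have e1 : min i j = j := min_eq_right h.le
            have e2 : max i j = i := max_eq_left h.le
            rw [e1, e2, md_inr C h hil, C1_D_symm]
        · rw [vl_high C l _ (Or.inr (show BadW (.inr (i, l)) from by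
            change l ≤ i
            omega)), vl_oor C l (Or.inl (show l ≤ topW (.inr (min i j, max i j)) from by
            change l ≤ max (min i j) (max i j)
            omega))]
    · rw [if_neg hl, ops_X]
      refine vl_lo C m _ ?_
      by_cases hb : l ≤ i
      · exact Or.inr hb
      · refine Or.inl ?_
        change max i l ≠ m
        omega

/-- The rule for the points, on variables. -/
theorem vl_pt (m : ℕ) (x : pt (Spec (CommRingCat.of k)) ⟶ C) (v : W (LB C)) :
    vl (dl (Pw C m)) (rs C m (toPt (Pw C m) ≫ x)) v =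
      ops (dl (Pw C m)) (md C m) (ptS m (Opt C hdim x) (MvPolynomial.X v)) := by
  rcases v with ⟨i, N⟩ | ⟨i, l⟩
  · rw [ptS, MvPolynomial.aeval_X]
    dsimp only
    by_cases hi : i = m
    · subst hi
      rw [if_pos rfl, map_zero]
      change C1 _ (rs C i _ (.inl (i, N))) = 0
      rw [C1_rs_inl_self, ← C1_pull_comp _ (toPt (Pw C i)) x _ rfl]
      have hs : Subsingleton (pt (Spec (CommRingCat.of k))).left :=
        inferInstanceAs (Subsingleton (PrimeSpectrum k))
      obtain ⟨e⟩ := nonempty_triv (T := (pt (Spec (CommRingCat.of k))).left)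
        (IsLocalRing.closedPoint k) (Fdesc.LocGen.isInvertible_pullback x.left N.2)
      rw [C1_congr _ ((Scheme.Modules.pullback (toPt (Pw C i)).left).mapIso e)]
      exact C1_pull_O (dl_setup _) _
    · rw [if_neg hi, ops_X]
      exact vl_lo C m _ (Or.inl hi)
  · rw [ptS, MvPolynomial.aeval_X]
    dsimp only
    by_cases hl : l = m
    · subst hl
      rw [if_pos rfl, ops_X]
      by_cases hil : i < l
      · change - C1 _ (rs C l _ (.inr (i, l))) = C1 _ (md C l (.inl (i, Opt C hdim x)))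
        rw [md_inl C hil, Opt, C1_pull_invL (dl_setup _), C1_rs_inr_self C _ hil,
          C1_pull_D _ (crd C l ⟨i, hil⟩) _ _ _ _ (Category.comp_id _) (show _ = toPt (Pw C l) ≫ x by
            rw [cst, ← Category.assoc]
            congr 1
            exact hom_pt_ext _ _)]
      · rw [vl_high C l _ (Or.inr (show BadW (.inr (i, l)) from by
          change l ≤ i
          omega)), vl_oor C l (Or.inl (show l ≤ topW (.inl (i, Opt C hdim x)) from by
          change l ≤ i
          omega))]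
    · rw [if_neg hl, ops_X]
      refine vl_lo C m _ ?_
      by_cases hb : l ≤ i
      · exact Or.inr hb
      · refine Or.inl ?_
        change max i l ≠ m
        omega

end J

end Groth.Agent.VBCurve.K323.SubChow
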