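import Groth.Agent.VBCurve.K323.SubChow4
import Groth.Agent.Old.H24.LinearSeries
import Groth.Agent.CurvesB.SubEuler

/-!
# Zero cycles on a curve; line bundles on the last factor
-/

set_option autoImplicit false

universe u

open CategoryTheory AlgebraicGeometry CategoryTheory.Limits Cyc

namespace Groth.Agent.VBCurve.K323.SubChow

open Groth.Agent Groth.Agent.CycA Groth.Agent.CycB
open K308.Grp K553.Sub Groth.Agent.VBCurve.K569.SubInv SubAbs

section closed

variable {k : Type u} [Field k] [IsAlgClosed k] (C : Over (Spec (CommRingCat.of k)))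
  [IsIntegral C.left] [IsProper C.hom] [Smooth C.hom] (hdim : topologicalKrullDim C.left = 1)

omit [IsIntegral C.left] [Smooth C.hom] in
theorem isClosed_of_dl_eq_zero (y : C.left) (hy : dl C y = 0) : IsClosed ({y} : Set C.left) := by
  have h : closure ({y} : Set C.left) ⊆ {y} := by
    intro z hz
    have hyz : y ⤳ z := specializes_iff_mem_closure.2 hz
    by_contra hne
    have h1 := ((dl_setup C).2.2 y z hyz (fun h => hne h.symm)).1
    have h2 := dl_nonneg C z
    omega
  exact isClosed_of_closure_subset h

omit [IsIntegral C.left] [Smooth C.hom] in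
theorem atp_inj {x y : pt (Spec (CommRingCat.of k)) ⟶ C} (h : atp x = atp y) : x = y :=
  (exists_pt (atp y) (isClosed_atp y)).unique h rfl

include hdim in
omit [IsAlgClosed k] [Smooth C.hom] in
theorem dm_C : dm C = 1 := dm_eq C (n := 1) (by simpa using hdim)

include hdim in
/-- the degree of a line bundle on the curve -/
theorem dg_C1 {N : C.left.Modules} (hN : PicF.IsInvertible N) :
    dg C (C1 (dl C) N (fd C)) = Curv2.deg k C.left N 1 := by
  have hp : IsProper (C.left ↘ Spec (CommRingCat.of k)) := ‹IsProper C.hom›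
  exact degG_c1 (K := k) (X := C.left) hdim.le (dl_setup C) (dl_compat C) hN
    (by rw [coe_fc, dm_C C hdim])

include hdim in
/-- The first Chern class of a line bundle as a combination of points. -/
theorem exists_points {N : C.left.Modules} (hN : PicF.IsInvertible N) :
    ∃ n : (pt (Spec (CommRingCat.of k)) ⟶ C) →₀ ℤ,
      (n.sum fun _ c => c) = Curv2.deg k C.left N 1 ∧
      C1 (dl C) N (fd C) = n.sum fun x c => c • ps x (fd (pt (Spec (CommRingCat.of k)))) := by
  classical
  have hC := dl_setup C
  set γ : AlgebraicCycle C.left ℤ := capCycle hC hN (fc C) with hγ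
  have h1 := coe_capCycle hC hN (fc C)
  have h2 : C1 (dl C) N (fd C) = K308.Grp.cl (dl C) γ := by
    rw [C1_eq hC hN]
    rfl
  have h3 : γ ∈ Zk C.left (dl C) 0 := by
    have h0 : fc C ∈ Zk C.left (dl C) (0 + 1) := by
      intro x hx
      rw [coe_fc, dm_C C hdim, C1Fin.subschemeFun_id, if_neg (by simpa using hx)]
    exact Zk_cap h0 h1
  have hcs : CompactSpace C.left := (quasiCompact_iff_compactSpace C.hom).mp inferInstance
  have hqc : ∀ x : pt (Spec (CommRingCat.of k)) ⟶ C, QuasiCompact x.left := qc_left C
  have hfin : (Function.support ⇑γ).Finite := by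
    have h4 := (Groth.Agent.CycB.DivFun.locFin_support γ).finite_of_isCompact (K := Set.univ)
      isCompact_univ
    refine (h4.image (fun x : {x // γ x ≠ 0} => x.1)).subset ?_
    intro x hx
    exact ⟨⟨x, hx⟩, trivial, rfl⟩
  have hclosed : ∀ y, γ y ≠ 0 → ∃ x : pt (Spec (CommRingCat.of k)) ⟶ C, atp x = y := by
    intro y hy
    have h4 : dl C y = 0 := by
      by_contra h
      exact hy (h3 y h)
    exact (exists_pt y (isClosed_of_dl_eq_zero C y h4)).exists
  have hfin' : (Function.support fun x : pt (Spec (CommRingCat.of k)) ⟶ C => γ (atp x)).Finite :=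
    hfin.preimage (fun x _ y _ h => atp_inj C h)
  set n : (pt (Spec (CommRingCat.of k)) ⟶ C) →₀ ℤ :=
    Finsupp.ofSupportFinite (fun x => γ (atp x)) hfin' with hn
  have hn' : ∀ x, n x = γ (atp x) := fun x => rfl
  have h5 : γ = n.sum fun x c => c •
      AlgebraicCycle.map x.left (dl _) (dl C) (fc (pt (Spec (CommRingCat.of k)))) := by
    ext y
    have h6 : (n.sum fun x c => c •
        AlgebraicCycle.map x.left (dl _) (dl C) (fc (pt (Spec (CommRingCat.of k))))) y =
        ∑ x ∈ n.support, n x * (if y = atp x then 1 else 0) := by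
      rw [Finsupp.sum]
      have h7 : ∀ (s : Finset (pt (Spec (CommRingCat.of k)) ⟶ C)), (∑ x ∈ s, n x •
          AlgebraicCycle.map x.left (dl _) (dl C) (fc (pt (Spec (CommRingCat.of k))))) y =
          ∑ x ∈ s, n x * (if y = atp x then 1 else 0) := by
        intro s
        induction s using Finset.induction_on with
        | empty => rfl
        | insert a s ha ih =>
          rw [Finset.sum_insert ha, Finset.sum_insert ha, ← ih,
            Function.locallyFinsuppWithin.coe_add, Pi.add_apply, ← coe_map_pt C a y]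
          rfl
      exact h7 _
    rw [h6]
    by_cases hy : γ y = 0
    · rw [hy]
      symm
      refine Finset.sum_eq_zero fun x hx => ?_
      rw [Finsupp.mem_support_iff, hn'] at hx
      rw [if_neg, mul_zero]
      rintro rfl
      exact hx hy
    · obtain ⟨x, rfl⟩ := hclosed y hy
      rw [Finset.sum_eq_single x]
      · rw [if_pos rfl, mul_one, hn']
      · intro z _ hz
        rw [if_neg (fun h => hz (atp_inj C h).symm), mul_zero]
      · intro hx
        rw [Finsupp.notMem_support_iff.1 hx, zero_mul]
  have h8 : C1 (dl C) N (fd C) =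
      n.sum fun x c => c • ps x (fd (pt (Spec (CommRingCat.of k)))) := by
    rw [h2]
    conv_lhs => rw [h5]
    rw [Finsupp.sum, Finsupp.sum, map_sum]
    refine Finset.sum_congr rfl fun x _ => ?_
    rw [map_zsmul]
    rfl
  refine ⟨n, ?_, h8⟩
  rw [← dg_C1 C hdim hN, h8, Finsupp.sum, Finsupp.sum, map_sum]
  refine Finset.sum_congr rfl fun x _ => ?_
  rw [map_zsmul, dg_ps, dg_pt, smul_eq_mul, mul_one]

variable (T : Over (Spec (CommRingCat.of k))) [IsIntegral T.left] [IsProper T.hom]
  [IsIntegral (TX C T).left]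

omit [IsAlgClosed k] [IsIntegral C.left] [IsProper C.hom] [Smooth C.hom] [IsIntegral T.left]
  [IsProper T.hom] [IsIntegral (TX C T).left] in
theorem isPullback_fibre (x : pt (Spec (CommRingCat.of k)) ⟶ C) :
    IsPullback (gr (toPt T ≫ x)).left (toPt T).left (qr C T).left x.left := by
  have hx : x.left ≫ C.hom = 𝟙 _ := Over.w x
  have e1 : (gr (toPt T ≫ x)).left ≫ (pr C T).left = 𝟙 T.left := by
    rw [← Over.comp_left, gr, lft_pr]
    rfl
  have e2 : (gr (toPt T ≫ x)).left ≫ (qr C T).left = T.hom ≫ x.left := by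
    rw [← Over.comp_left, gr, lft_qr]
    rfl
  refine ⟨⟨e2⟩, ⟨PullbackCone.IsLimit.mk _ (fun s => s.fst ≫ (pr C T).left) ?_ ?_ ?_⟩⟩
  · intro s
    have h0 : s.fst ≫ (qr C T).left = s.snd ≫ x.left := s.condition
    have h1 : (pr C T).left ≫ T.hom = (qr C T).left ≫ C.hom := pullback.condition
    apply pullback.hom_ext
    · change ((s.fst ≫ (pr C T).left) ≫ (gr (toPt T ≫ x)).left) ≫ (pr C T).left =
        s.fst ≫ (pr C T).left
      rw [Category.assoc, e1, Category.comp_id]
    · change ((s.fst ≫ (pr C T).left) ≫ (gr (toPt T ≫ x)).left) ≫ (qr C T).left =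
        s.fst ≫ (qr C T).left
      rw [Category.assoc, e2, Category.assoc, reassoc_of% h1, reassoc_of% h0, reassoc_of% hx, h0]
  · intro s
    have h0 : s.fst ≫ (qr C T).left = s.snd ≫ x.left := s.condition
    have h1 : (pr C T).left ≫ T.hom = (qr C T).left ≫ C.hom := pullback.condition
    change (s.fst ≫ (pr C T).left) ≫ T.hom = s.snd
    rw [Category.assoc, h1, reassoc_of% h0, hx]
    exact Category.comp_id _
  · intro s m h3 h4
    rw [← h3, Category.assoc, e1, Category.comp_id]

omit [IsAlgClosed k] [IsIntegral C.left] [IsProper C.hom] [Smooth C.hom] [IsIntegral T.left]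
  [IsProper T.hom] [IsIntegral (TX C T).left] in
theorem flat_pr [Flat C.hom] : Flat (pr C T).left :=
  inferInstanceAs (Flat (pullback.fst T.hom C.hom))

theorem flat_hom_field (T : Over (Spec (CommRingCat.of k))) : Flat T.hom := by
  have h1 : Subsingleton (Spec (CommRingCat.of k)) :=
    inferInstanceAs (Subsingleton (PrimeSpectrum k))
  have h2 : IsIntegral (Spec (CommRingCat.of k)) := inferInstance
  exact inferInstanceAs (Flat (X := T.left) (Y := Spec (CommRingCat.of k)) T.hom)

theorem flat_qr : Flat (qr C T).left := by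
  have := flat_hom_field T
  exact inferInstanceAs (Flat (pullback.snd T.hom C.hom))

theorem flat_toPt : Flat (toPt T).left := flat_hom_field T

include hdim in
/-- The first Chern class of a line bundle pulled back from the last factor. -/
theorem C1_qr {N : C.left.Modules} (hN : PicF.IsInvertible N)
    (n : (pt (Spec (CommRingCat.of k)) ⟶ C) →₀ ℤ)
    (hn : C1 (dl C) N (fd C) = n.sum fun x c => c • ps x (fd (pt (Spec (CommRingCat.of k))))) :
    C1 (dl (TX C T)) ((Scheme.Modules.pullback (qr C T).left).obj N) (fd (TX C T)) =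
      n.sum fun x c => c • ps (gr (toPt T ≫ x)) (fd T) := by
  have hq := flat_qr C T
  have ht := flat_toPt T
  rw [← pl_fd (qr C T) hq, ← pl_C1 (qr C T) hq hN, hn, Finsupp.sum, Finsupp.sum, map_sum]
  refine Finset.sum_congr rfl fun x _ => ?_
  rw [map_zsmul]
  congr 1
  have hs1 : Shift (qr C T).left (dl (TX C T)) (dl C) (dm T) := by
    have := shift_of_flat (qr C T) hq
    rw [dm_TX C hdim T, dm_C C hdim] at this
    simpa using this
  have hs2 : Shift (toPt T).left (dl T) (dl (pt (Spec (CommRingCat.of k)))) (dm T) := by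
    have := shift_of_flat (toPt T) ht
    rw [dm_pt] at this
    simpa using this
  have hpx := isProper_left x
  have hpg := isProper_left (gr (toPt T ≫ x))
  have h1 := pull_push (dl_setup (pt (Spec (CommRingCat.of k)))) (dl_setup C) (dl_setup T)
    (dl_setup (TX C T)) (isPullback_fibre C T x) (dl_map x) (dl_map (gr (toPt T ≫ x))) hs1 hs2
    (fd (pt (Spec (CommRingCat.of k))))
  have h2 : pull (dl_setup T) (dl_setup (pt (Spec (CommRingCat.of k)))) (toPt T).left hs2
      (fd (pt (Spec (CommRingCat.of k)))) = fd T := by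
    refine pull_fund (dl_setup T) (dl_setup (pt (Spec (CommRingCat.of k)))) (toPt T).left hs2 ?_
      (coe_fc (pt (Spec (CommRingCat.of k)))) (coe_fc T)
    rw [dm_pt]
    ring
  have h3 : ∀ c (hc : Shift (qr C T).left (dl (TX C T)) (dl C) c) (h : dm T = c) (a : G C.left (dl C)),
      pull (dl_setup (TX C T)) (dl_setup C) (qr C T).left hc a =
        pull (dl_setup (TX C T)) (dl_setup C) (qr C T).left hs1 a := by
    intro c hc h a
    subst h
    rfl
  have h4 : pl (qr C T) hq (ps x (fd (pt (Spec (CommRingCat.of k))))) =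
      pull (dl_setup (TX C T)) (dl_setup C) (qr C T).left hs1
        (ps x (fd (pt (Spec (CommRingCat.of k))))) := by
    refine h3 _ _ ?_ _
    rw [dm_TX C hdim T, dm_C C hdim]
    ring
  rw [h4]
  refine Eq.trans h1 ?_
  rw [h2]
  rfl

end closed

end Groth.Agent.VBCurve.K323.SubChow
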