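import Groth.Agent.VBCurve.K323.TautTop

/-!
# Complete symmetric polynomials and the top number
-/

set_option autoImplicit false

open MvPolynomial

namespace Groth.Agent.VBCurve.K323.TautNum

/-- auxiliary recursion -/
def hsAux {A : Type*} [Semiring A] (p : ℕ → A) (c : A) : ℕ → A
  | 0 => 1
  | j + 1 => p (j + 1) + c * hsAux p c j

/-- The complete symmetric polynomials of degree `j` of `x 0, …, x (i - 1)`. -/
def hs {A : Type*} [Semiring A] (x : ℕ → A) : ℕ → ℕ → A
  | 0 => fun j => if j = 0 then 1 else 0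
  | i + 1 => hsAux (hs x i) (x i)

theorem hs_zero {A : Type*} [Semiring A] (x : ℕ → A) (i : ℕ) : hs x i 0 = 1 := by
  cases i <;> rfl

theorem hs_zero_succ {A : Type*} [Semiring A] (x : ℕ → A) (j : ℕ) : hs x 0 (j + 1) = 0 := rfl

theorem hs_succ_succ {A : Type*} [Semiring A] (x : ℕ → A) (i j : ℕ) :
    hs x (i + 1) (j + 1) = hs x i (j + 1) + x i * hs x (i + 1) j := rfl

theorem map_hs {A B : Type*} [Semiring A] [Semiring B] (f : A →+* B) (x : ℕ → A) (i : ℕ) :
    ∀ j, f (hs x i j) = hs (fun l => f (x l)) i j := by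
  induction i with
  | zero =>
    intro j
    cases j with
    | zero => exact map_one f
    | succ j => exact map_zero f
  | succ i ih =>
    intro j
    induction j with
    | zero => exact map_one f
    | succ j ihj => rw [hs_succ_succ, hs_succ_succ, map_add, map_mul, ih, ihj]

theorem hs_congr {A : Type*} [Semiring A] {x y : ℕ → A} (i : ℕ) (h : ∀ l < i, x l = y l) :
    ∀ j, hs x i j = hs y i j := by
  induction i with
  | zero =>
    intro j
    cases j <;> rfl
  | succ i ih =>
    intro j
    induction j with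
    | zero => rfl
    | succ j ihj =>
      rw [hs_succ_succ, hs_succ_succ, ih (fun l hl => h l (by omega)), ihj, h i (by omega)]

theorem isHomogeneous_hs {x : ℕ → R} (hx : ∀ i, (x i).IsHomogeneous 1) (i : ℕ) :
    ∀ j, (hs x i j).IsHomogeneous j := by
  induction i with
  | zero =>
    intro j
    cases j with
    | zero => exact isHomogeneous_one _ _
    | succ j => exact isHomogeneous_zero _ _ _
  | succ i ih =>
    intro j
    induction j with
    | zero => exact isHomogeneous_one _ _
    | succ j ihj =>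
      rw [hs_succ_succ]
      refine (ih (j + 1)).add ?_
      have := (hx i).mul ihj
      rwa [add_comm 1 j] at this

/-- the class `n h_i - ∑ l < i, δ l i` -/
noncomputable def gm (n : ℚ) (i : ℕ) : R := C n * h i - ∑ l ∈ Finset.range i, δ l i

theorem isHomogeneous_gm (n : ℚ) (i : ℕ) : (gm n i).IsHomogeneous 1 := by
  have h1 : (C n * h i : R).IsHomogeneous 1 := by
    have := (isHomogeneous_C V n).mul (Num.isHomogeneous_h i)
    rwa [zero_add] at this
  exact h1.sub (IsHomogeneous.sum (Finset.range i) (fun l => δ l i) 1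
    fun l _ => Num.isHomogeneous_δ l i)

namespace Num

variable {κ : ℚ} (D : Num κ)

theorem L_mul_S_mem (a : ℕ) (n : ℚ) (i : ℕ) :
    L n i * (∑ j ∈ Finset.range (a + 1), hs (gm n) (i + 1) j) -
      ∑ j ∈ Finset.range (a + 1), hs (gm n) i j ∈ D.N a := by
  have e : L n i * (∑ j ∈ Finset.range (a + 1), hs (gm n) (i + 1) j) -
      ∑ j ∈ Finset.range (a + 1), hs (gm n) i j = - (gm n i * hs (gm n) (i + 1) a) := by
    have h1 : ∑ j ∈ Finset.range (a + 1), hs (gm n) (i + 1) j =
        (∑ j ∈ Finset.range a, hs (gm n) (i + 1) (j + 1)) + hs (gm n) (i + 1) 0 :=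
      Finset.sum_range_succ' _ _
    have h2 : ∑ j ∈ Finset.range (a + 1), hs (gm n) i j =
        (∑ j ∈ Finset.range a, hs (gm n) i (j + 1)) + hs (gm n) i 0 :=
      Finset.sum_range_succ' _ _
    have h3 : ∑ j ∈ Finset.range a, hs (gm n) (i + 1) (j + 1) =
        (∑ j ∈ Finset.range a, hs (gm n) i (j + 1)) +
          gm n i * ∑ j ∈ Finset.range a, hs (gm n) (i + 1) j := by
      rw [Finset.mul_sum, ← Finset.sum_add_distrib]
      exact Finset.sum_congr rfl fun j _ => hs_succ_succ _ _ _
    have h4 : ∑ j ∈ Finset.range (a + 1), hs (gm n) (i + 1) j =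
        (∑ j ∈ Finset.range a, hs (gm n) (i + 1) j) + hs (gm n) (i + 1) a :=
      Finset.sum_range_succ _ _
    have h5 : L n i = 1 - gm n i := rfl
    rw [hs_zero] at h1 h2
    rw [h5, sub_mul, one_mul]
    nth_rewrite 1 [h1]
    rw [h4, h2, h3]
    ring
  rw [e]
  refine neg_mem (D.mem_N_of_degree (d := a + 1) ?_ (by omega))
  have := (isHomogeneous_gm n i).mul (isHomogeneous_hs (isHomogeneous_gm n) (i + 1) a)
  rwa [add_comm 1 a] at this

theorem prod_L_mul_S_mem (a : ℕ) (n : ℚ) (m : ℕ) :
    (∏ i ∈ Finset.range m, L n i) * (∑ j ∈ Finset.range (a + 1), hs (gm n) m j) - 1 ∈ D.N a := by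
  induction m with
  | zero =>
    have : ∑ j ∈ Finset.range (a + 1), hs (gm n) 0 j = 1 := by
      rw [Finset.sum_range_succ']
      simp [hs_zero_succ, hs_zero]
    rw [this]
    simp
  | succ m ih =>
    rw [Finset.prod_range_succ]
    have h1 := D.L_mul_S_mem a n m
    set A : R := ∏ i ∈ Finset.range m, L n i
    set B : R := ∑ j ∈ Finset.range (a + 1), hs (gm n) m j
    set B' : R := ∑ j ∈ Finset.range (a + 1), hs (gm n) (m + 1) j
    have e : A * L n m * B' - 1 = A * (L n m * B' - B) + (A * B - 1) := by ring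
    rw [e]
    exact add_mem (Ideal.mul_mem_left _ _ h1) ih

/-- **The top number** in terms of the complete symmetric polynomial of degree `a`. -/
theorem I_hs (g a : ℕ) (hga : g ≤ a) (n : ℚ) (hn : n + 1 = 2 * a + g)
    (D : Num (2 - 2 * (g : ℚ))) : D.I a (hs (gm n) a a) = a.factorial * 2 ^ g := by
  rw [← topNumber g a hga n hn D, ← D.I_eq_of_sub_mem
    (D.sub_mem_of_prod (D.prod_L_mul_S_mem a n a) (D.prod_L_mul_sum_mem a n a)), map_sum,
    Finset.sum_range_succ, Finset.sum_eq_zero, zero_add]
  intro j hj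
  have := Finset.mem_range.mp hj
  exact D.I_homog a j _ (isHomogeneous_hs (isHomogeneous_gm n) a j) (by omega)

end Num

end Groth.Agent.VBCurve.K323.TautNum
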