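import Groth.Agent.VBCurve.K323.SubChow5
import Groth.Agent.VBCurve.K323.TautSym
import Groth.Agent.S1612
import Groth.Agent.VarietyA.CurveFin

/-!
# The numerical functionals of a curve

`geo : Geo (LB C) (pt ⟶ C)`, `num : Num (2 - 2 g)`.
-/

set_option autoImplicit false

universe u

open CategoryTheory AlgebraicGeometry CategoryTheory.Limits Cyc

namespace Groth.Agent.VBCurve.K323.SubChow

open Groth.Agent Groth.Agent.CycA Groth.Agent.CycB
open K308.Grp K553.Sub Groth.Agent.VBCurve.K569.SubInv SubAbs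

variable {k : Type u} [Field k] [IsAlgClosed k] (C : Over (Spec (CommRingCat.of k)))
  [IsIntegral C.left] [IsProper C.hom] [Smooth C.hom] (hdim : topologicalKrullDim C.left = 1)

/-! ### the rules -/

/-- comparison on the low variables -/
theorem C1_md_low (m : ℕ) {v : W (LB C)} (hv : topW v < m) :
    C1 (dl (TX C (Pw C m))) (md C (m + 1) v) =
      C1 (dl (TX C (Pw C m))) ((Scheme.Modules.pullback (pr C (Pw C m)).left).obj (md C m v)) := by
  rcases v with ⟨i, N⟩ | ⟨i, j⟩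
  · have hi : i < m := hv
    rw [md_inl C (Nat.lt_succ_of_lt hi), md_inl C hi]
    exact (C1_pull_comp _ (pr C (Pw C m)) _ _ (crd_lt C m i hi).symm _).symm
  · have hij : max i j < m := hv
    have hi : i < m := by omega
    have hj : j < m := by omega
    by_cases h : i < j
    · rw [md_inr C h (Nat.lt_succ_of_lt hj), md_inr C h hj]
      exact (C1_pull_D _ (pr C (Pw C m)) _ _ _ _ (crd_lt C m i hi).symm (crd_lt C m j hj).symm).symm
    · rw [md_inr_not C (fun hh => h hh.1), md_inr_not C (fun hh => h hh.1)]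
      exact (C1_structure (dl_setup _)).trans (C1_pull_O (dl_setup _) _).symm

include hdim in
theorem J_low (m : ℕ) (Q : MvPolynomial (W (LB C)) ℤ) (hQ : ∀ v ∈ Q.vars, topW v < m) :
    J C (m + 1) Q = 0 := by
  have hf := flat_pr C (Pw C m)
  have h1 := ops_congr (dl (TX C (Pw C m))) (md C (m + 1))
    (fun v => (Scheme.Modules.pullback (pr C (Pw C m)).left).obj (md C m v)) Q
    (fun v hv => C1_md_low C m (hQ v hv))
  have h2 := pl_op (pr C (Pw C m)) hf (md C m) (inv_md C hdim m) (sgn Q) (fd (Pw C m))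
  rw [pl_fd] at h2
  change dg (TX C (Pw C m)) (ops (dl (TX C (Pw C m))) (md C (m + 1)) Q (fd (TX C (Pw C m)))) = 0
  rw [h1]
  change dg (TX C (Pw C m)) (op (dl (TX C (Pw C m)))
    (fun v => (Scheme.Modules.pullback (pr C (Pw C m)).left).obj (md C m v)) (sgn Q)
    (fd (TX C (Pw C m)))) = 0
  rw [← h2]
  refine dg_pl (pr C (Pw C m)) hf ?_ _
  rw [dm_TX C hdim]
  omega

include hdim in
theorem J_pt (N : LB C) : ∃ n : (pt (Spec (CommRingCat.of k)) ⟶ C) →₀ ℤ,
    (n.sum fun _ c => c) = Curv2.deg k C.left N.1 1 ∧ ∀ (m : ℕ) (Q : MvPolynomial (W (LB C)) ℤ),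
    J C (m + 1) (MvPolynomial.X (.inl (m, N)) * Q) =
      n.sum fun x c => c * J C m (ptS m (Opt C hdim x) Q) := by
  obtain ⟨n, hn, h⟩ := exists_points C hdim N.2
  refine ⟨n, hn, fun m Q => ?_⟩
  have h1 := C1_qr C hdim (Pw C m) N.2 n h
  have h2 : vl (dl (TX C (Pw C m))) (md C (m + 1)) (.inl (m, N)) (fd (TX C (Pw C m))) =
      n.sum fun x c => c • ps (gr (toPt (Pw C m) ≫ x)) (fd (Pw C m)) := by
    rw [← h1]
    change C1 (dl (TX C (Pw C m))) (md C (m + 1) (.inl (m, N))) (fd (TX C (Pw C m))) = _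
    rw [md_inl C (Nat.lt_succ_self m), crd_self C m]
    rfl
  rw [J_apply, ops_mul_apply, ops_X]
  refine Eq.trans (congrArg (fun a => dg (Pw C (m + 1)) (ops (dl (Pw C (m + 1))) (md C (m + 1)) Q a))
    h2) ?_
  change dg (TX C (Pw C m)) (ops (dl (TX C (Pw C m))) (md C (m + 1)) Q
    (n.sum fun x c => c • ps (gr (toPt (Pw C m) ≫ x)) (fd (Pw C m)))) = _
  rw [Finsupp.sum, Finsupp.sum, map_sum, map_sum]
  refine Finset.sum_congr rfl fun x _ => ?_
  rw [map_zsmul, map_zsmul, smul_eq_mul]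
  congr 1
  exact dg_ops_ps C m (toPt (Pw C m) ≫ x) Q (ptS m (Opt C hdim x)) (vl_pt C hdim m x)
    (inv_md C hdim (m + 1))

include hdim in
theorem J_dg (m j : ℕ) (Q : MvPolynomial (W (LB C)) ℤ) (hj : j < m) :
    J C (m + 1) (MvPolynomial.X (.inr (j, m)) * Q) = J C m (dgS m j (tgt C hdim) Q) := by
  have h1 := C1_D C hdim (Pw C m) (crd C m ⟨j, hj⟩)
  have h2 : vl (dl (TX C (Pw C m))) (md C (m + 1)) (.inr (j, m)) (fd (TX C (Pw C m))) =
      ps (gr (crd C m ⟨j, hj⟩)) (fd (Pw C m)) := by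
    change (- C1 (dl (TX C (Pw C m))) (md C (m + 1) (.inr (j, m)))) (fd (TX C (Pw C m))) = _
    rw [md_inr C hj (Nat.lt_succ_self m), crd_self C m, crd_lt C m j hj]
    change - (C1 (dl (TX C (Pw C m))) (D (pr C (Pw C m) ≫ crd C m ⟨j, hj⟩) (qr C (Pw C m)))
      (fd (TX C (Pw C m)))) = _
    rw [h1, neg_neg]
  rw [J_apply, ops_mul_apply, ops_X]
  refine Eq.trans (congrArg (fun a => dg (Pw C (m + 1)) (ops (dl (Pw C (m + 1))) (md C (m + 1)) Q a))
    h2) ?_
  exact dg_ops_ps C m (crd C m ⟨j, hj⟩) Q (dgS m j (tgt C hdim)) (vl_dg C hdim m j hj)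
    (inv_md C hdim (m + 1))

/-! ### degrees -/

theorem deg_O : Curv2.deg k C.left (Coh.structureModule C.left) 1 = 0 := by
  simp [Curv2.deg]

include hdim in
theorem deg_invL (N : C.left.Modules) (hN : PicF.IsInvertible N) :
    Curv2.deg k C.left (invL N hN).1 1 = - Curv2.deg k C.left N 1 := by
  have hp : IsProper (C.left ↘ Spec (CommRingCat.of k)) := ‹IsProper C.hom›
  have h1 : Curv2.deg k C.left (CohB1.tensorMod N (invL N hN).1) 1 =
      Curv2.deg k C.left N 1 + Curv2.deg k C.left (invL N hN).1 1 :=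
    Old.H24.LinearSeries.deg_tensor k hdim.le hN (invL N hN).2
  have h2 : Curv2.deg k C.left (CohB1.tensorMod N (invL N hN).1) 1 =
      Curv2.deg k C.left (Coh.structureModule C.left) 1 :=
    CurvesB.SubEuler.deg_congr k (@asIso _ _ _ _ (Groth.Agent.Grpsch.PicGrp.ev N)
      (Groth.Agent.Grpsch.PicGrp.isIso_ev hN)) 1
  rw [deg_O] at h2
  omega

theorem deg_Opt (x : pt (Spec (CommRingCat.of k)) ⟶ C) :
    Curv2.deg k C.left (Opt C hdim x).1 1 = 1 := by
  have hp : IsProper (C.left ↘ Spec (CommRingCat.of k)) := ‹IsProper C.hom›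
  obtain ⟨e⟩ := nonempty_D_symm (𝟙 C) (cst x)
  rw [Opt, deg_invL C hdim, CurvesB.SubEuler.deg_congr k e 1, deg_D_cst C hdim, neg_neg]

omit [IsAlgClosed k] [IsIntegral C.left] [Smooth C.hom] [IsProper C.hom] in
theorem pair_id : pair (𝟙 C) (𝟙 C) = pullback.diagonal C.hom := rfl

theorem deg_tgt {g : ℕ} (hgen : Curv2.genus k C.left = g) :
    Curv2.deg k C.left (tgt C hdim).1 1 = 2 - 2 * (g : ℤ) := by
  have hp : IsProper (C.left ↘ Spec (CommRingCat.of k)) := ‹IsProper C.hom›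
  have h0 : Module.finrank k (Coh.HH C.left (Coh.structureModule C.left) 0) = 1 :=
    VarietyA.CurveFin.finrank_h0_structure k C.left
  have h2 := (S1612.result k C.left ⟨‹IsProper C.hom›, ‹Smooth C.hom›, inferInstance, hdim⟩ h0).2
  have h3 : Curv2.deg k C.left (D (𝟙 C) (𝟙 C)) 1 = 2 * (Curv2.genus k C.left : ℤ) - 2 := h2
  rw [tgt, deg_invL C hdim, h3, hgen]
  ring

/-- The numerical data of the curve. -/
noncomputable def geo : Geo (LB C) (pt (Spec (CommRingCat.of k)) ⟶ C) where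
  deg N := Curv2.deg k C.left N.1 1
  O := Opt C hdim
  ω := tgt C hdim
  J := J C
  deg_O := deg_Opt C hdim
  one := J_one C
  oor := J_oor C
  low := J_low C hdim
  pt := J_pt C hdim
  dg m j Q hj := J_dg C hdim m j Q hj

end Groth.Agent.VBCurve.K323.SubChow
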