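import Groth.Agent.VBCurve.K323.SubChow6

/-!
# Nilpotence of the first Chern classes; the functional of a symmetric polynomial
-/

set_option autoImplicit false

universe u

open CategoryTheory AlgebraicGeometry CategoryTheory.Limits Cyc

namespace Groth.Agent.VBCurve.K323.SubChow

open Groth.Agent Groth.Agent.CycA Groth.Agent.CycB
open K308.Grp K553.Sub Groth.Agent.VBCurve.K569.SubInv SubAbs

section fil

variable {X : Scheme.{u}}

/-- classes of cycles of dimension at most `m` -/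
def Fil (δ : X → ℤ) (m : ℤ) : Set (G X δ) :=
  {a | ∃ α : AlgebraicCycle X ℤ, (∀ x, m < δ x → α x = 0) ∧ K308.Grp.cl δ α = a}

theorem Fil_zero_mem (δ : X → ℤ) (m : ℤ) : (0 : G X δ) ∈ Fil δ m :=
  ⟨0, fun _ _ => rfl, map_zero _⟩

theorem Fil_add {δ : X → ℤ} {m : ℤ} {a b : G X δ} (ha : a ∈ Fil δ m) (hb : b ∈ Fil δ m) :
    a + b ∈ Fil δ m := by
  obtain ⟨α, h1, rfl⟩ := ha
  obtain ⟨β, h2, rfl⟩ := hb
  refine ⟨α + β, fun x hx => ?_, map_add _ _ _⟩
  rw [Function.locallyFinsuppWithin.coe_add, Pi.add_apply, h1 x hx, h2 x hx, add_zero]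

theorem Fil_zsmul {δ : X → ℤ} {m : ℤ} {a : G X δ} (n : ℤ) (ha : a ∈ Fil δ m) :
    n • a ∈ Fil δ m := by
  obtain ⟨α, h1, rfl⟩ := ha
  refine ⟨n • α, fun x hx => ?_, map_zsmul _ _ _⟩
  change n • α x = 0
  rw [h1 x hx, smul_zero]

theorem Fil_neg {δ : X → ℤ} {m : ℤ} {a : G X δ} (ha : a ∈ Fil δ m) : - a ∈ Fil δ m := by
  have := Fil_zsmul (-1) ha
  rwa [neg_smul, one_smul] at this

theorem Fil_C1 {δ : X → ℤ} (L : X.Modules) {m : ℤ} {a : G X δ} (ha : a ∈ Fil δ m) :
    C1 δ L a ∈ Fil δ (m - 1) := by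
  by_cases h : IsSetup X δ ∧ PicF.IsInvertible L
  · obtain ⟨hX, hL⟩ := h
    obtain ⟨α, h1, rfl⟩ := ha
    refine ⟨capCycle hX hL α, fun x hx => ?_, ?_⟩
    · rw [coe_capCycle hX hL α, c1CapFun]
      refine finsum_eq_zero_of_forall_eq_zero fun ξ => ?_
      by_cases hξ : m < δ ξ
      · rw [h1 ξ hξ, zero_mul]
      · rw [secDivFun, dif_neg, mul_zero]
        rintro ⟨-, h2⟩
        omega
    · rw [C1_eq hX hL]
      rfl
  · have : C1 δ L = 0 := dif_neg h
    rw [this]
    exact Fil_zero_mem _ _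

theorem Fil_neg_one {δ : X → ℤ} (hδ : ∀ x, 0 ≤ δ x) {m : ℤ} (hm : m < 0) {a : G X δ}
    (ha : a ∈ Fil δ m) : a = 0 := by
  obtain ⟨α, h1, rfl⟩ := ha
  have : α = 0 := by
    ext x
    exact h1 x (lt_of_lt_of_le hm (hδ x))
  rw [this, map_zero]

theorem mem_Fil {δ : X → ℤ} {m : ℤ} (hm : ∀ x, δ x ≤ m) (a : G X δ) : a ∈ Fil δ m := by
  obtain ⟨α, rfl⟩ := cl_surjective δ a
  exact ⟨α, fun x hx => absurd (hm x) (by omega), rfl⟩

theorem Fil_vl {Λ : Type*} {δ : X → ℤ} (L : W Λ → X.Modules) (v : W Λ) {m : ℤ} {a : G X δ}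
    (ha : a ∈ Fil δ m) : vl δ L v a ∈ Fil δ (m - 1) := by
  rcases v with p | p
  · exact Fil_C1 _ ha
  · exact Fil_neg (Fil_C1 _ ha)

theorem Fil_monomial {Λ : Type*} {δ : X → ℤ} (L : W Λ → X.Modules) (c : ℤ) (d : ℕ) :
    ∀ (s : W Λ →₀ ℕ), s.degree = d → ∀ {m : ℤ} {a : G X δ}, a ∈ Fil δ m →
      ops δ L (MvPolynomial.monomial s c) a ∈ Fil δ (m - d) := by
  induction d with
  | zero =>
    intro s hs m a ha
    have h0 : s = 0 := (Finsupp.degree_eq_zero_iff s).1 hs
    subst h0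
    have h1 : (MvPolynomial.monomial 0 c : MvPolynomial (W Λ) ℤ) = c • 1 := by
      rw [← MvPolynomial.C_apply, MvPolynomial.smul_eq_C_mul, mul_one]
    rw [h1, map_zsmul, map_one]
    have := Fil_zsmul c ha
    simpa using this
  | succ d ih =>
    intro s hs m a ha
    have hne : s.support.Nonempty := by
      rw [Finset.nonempty_iff_ne_empty]
      intro h
      rw [Finsupp.support_eq_empty] at h
      rw [h, map_zero] at hs
      omega
    obtain ⟨v, hv⟩ := hne
    rw [Geo.monomial_split s c v hv, ops_mul_apply, ops_X]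
    have h1 : (s - Finsupp.single v 1).degree = d := by
      have h2 : s - Finsupp.single v 1 + Finsupp.single v 1 = s := by
        rw [tsub_add_cancel_of_le]
        rw [Finsupp.single_le_iff]
        exact Nat.one_le_iff_ne_zero.mpr (Finsupp.mem_support_iff.mp hv)
      have h3 := congrArg Finsupp.degree h2
      rw [map_add, Finsupp.degree_single, hs] at h3
      omega
    have h4 := ih _ h1 (Fil_vl L v ha)
    have h5 : m - 1 - (d : ℤ) = m - ((d + 1 : ℕ) : ℤ) := by push_cast; ring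
    rwa [h5] at h4

theorem Fil_ops {Λ : Type*} {δ : X → ℤ} (L : W Λ → X.Modules) {p : MvPolynomial (W Λ) ℤ} {d : ℕ}
    (hp : p.IsHomogeneous d) {m : ℤ} {a : G X δ} (ha : a ∈ Fil δ m) :
    ops δ L p a ∈ Fil δ (m - d) := by
  classical
  rw [p.as_sum, map_sum]
  have h : ∀ t : Finset (W Λ →₀ ℕ), t ⊆ p.support →
      (∑ s ∈ t, ops δ L (MvPolynomial.monomial s (MvPolynomial.coeff s p))) a ∈ Fil δ (m - d) := by
    intro t
    induction t using Finset.induction_on with
    | empty =>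
      intro _
      rw [Finset.sum_empty]
      exact Fil_zero_mem _ _
    | insert s t hs ih =>
      intro ht
      rw [Finset.sum_insert hs]
      refine Fil_add ?_ (ih fun x hx => ht (Finset.mem_insert_of_mem hx))
      refine Fil_monomial L _ d s ?_ ha
      have h1 := ht (Finset.mem_insert_self s t)
      rw [MvPolynomial.mem_support_iff] at h1
      have h2 := hp h1
      rwa [Finsupp.degree_eq_weight_one]
  exact h _ subset_rfl

end fil

section field

variable {k : Type u} [Field k] (T : Over (Spec (CommRingCat.of k))) [LocallyOfFiniteType T.hom]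
  [IsIntegral T.left]

theorem ops_eq_zero {Λ : Type*} (L : W Λ → T.left.Modules) {p : MvPolynomial (W Λ) ℤ} {d : ℕ}
    (hp : p.IsHomogeneous d) (hd : dm T < d) : ops (dl T) L p = 0 := by
  refine AddMonoidHom.ext fun a => ?_
  have h1 : a ∈ Fil (dl T) (dm T) := mem_Fil (fun x => delta_le_generic (dl_setup T).2.2 x) a
  exact Fil_neg_one (dl_nonneg T) (by omega) (Fil_ops L hp h1)

end field

end Groth.Agent.VBCurve.K323.SubChow
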