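import Groth.Agent.VBCurve.K979.ClEq
import Groth.Agent.VBCurve.K323.SubFil
import Groth.Agent.VBCurve.K553.SubChow2

/-!
# The number `n! 2^g` (node SUB-NUM of S15230)

`K553.Sub.degT_num`.
-/

set_option autoImplicit false

universe u

open CategoryTheory AlgebraicGeometry CategoryTheory.Limits Cyc

namespace Groth.Agent.VBCurve.K323.SubChow

open Groth.Agent Groth.Agent.CycA Groth.Agent.CycB
open K308.Grp K553.Sub Groth.Agent.VBCurve.K569.SubInv SubAbs TautNum

/-! ### symmetric polynomials -/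

section sym

theorem hom_hs {A : Type*} [CommRing A] {σ : Type*} {x : ℕ → MvPolynomial σ A}
    (hx : ∀ i, (x i).IsHomogeneous 1) (i : ℕ) : ∀ j, (hs x i j).IsHomogeneous j := by
  induction i with
  | zero =>
    intro j
    cases j with
    | zero => exact MvPolynomial.isHomogeneous_one _ _
    | succ j => exact MvPolynomial.isHomogeneous_zero _ _ _
  | succ i ih =>
    intro j
    induction j with
    | zero => exact MvPolynomial.isHomogeneous_one _ _
    | succ j ihj =>
      rw [hs_succ_succ]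
      refine (ih (j + 1)).add ?_
      have := (hx i).mul ihj
      rwa [add_comm 1 j] at this

theorem sum_hs_step {A : Type*} [CommRing A] (x : ℕ → A) (n i : ℕ) :
    (1 - x i) * (∑ j ∈ Finset.range (n + 1), hs x (i + 1) j) =
      ∑ j ∈ Finset.range (n + 1), hs x i j - x i * hs x (i + 1) n := by
  have h1 : ∑ j ∈ Finset.range (n + 1), hs x (i + 1) j =
      (∑ j ∈ Finset.range n, hs x (i + 1) (j + 1)) + hs x (i + 1) 0 :=
    Finset.sum_range_succ' _ _
  have h2 : ∑ j ∈ Finset.range (n + 1), hs x i j =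
      (∑ j ∈ Finset.range n, hs x i (j + 1)) + hs x i 0 :=
    Finset.sum_range_succ' _ _
  have h3 : ∑ j ∈ Finset.range n, hs x (i + 1) (j + 1) =
      (∑ j ∈ Finset.range n, hs x i (j + 1)) +
        x i * ∑ j ∈ Finset.range n, hs x (i + 1) j := by
    rw [Finset.mul_sum, ← Finset.sum_add_distrib]
    exact Finset.sum_congr rfl fun j _ => hs_succ_succ _ _ _
  have h4 : ∑ j ∈ Finset.range (n + 1), hs x (i + 1) j =
      (∑ j ∈ Finset.range n, hs x (i + 1) j) + hs x (i + 1) n :=
    Finset.sum_range_succ _ _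
  rw [hs_zero] at h1 h2
  rw [sub_mul, one_mul]
  nth_rewrite 1 [h1]
  rw [h4, h2, h3]
  ring

theorem sum_hs_zero {A : Type*} [CommRing A] (x : ℕ → A) (n : ℕ) :
    ∑ j ∈ Finset.range (n + 1), hs x 0 j = 1 := by
  rw [Finset.sum_range_succ']
  simp [hs_zero_succ, hs_zero]

end sym

/-! ### abstract part -/

section abs

variable {Λ P : Type*} (D : Geo Λ P)

/-- the class of the line bundle of degree `d` on the factor `i` minus the diagonals -/
noncomputable def Pl (N : Λ) (i : ℕ) : MvPolynomial (W Λ) ℤ :=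
  MvPolynomial.X (.inl (i, N)) - ∑ l ∈ Finset.range i, MvPolynomial.X (.inr (l, i))

theorem hom_Pl (N : Λ) (i : ℕ) : (Pl N i).IsHomogeneous 1 :=
  (MvPolynomial.isHomogeneous_X _ _).sub
    (MvPolynomial.IsHomogeneous.sum _ _ _ fun _ _ => MvPolynomial.isHomogeneous_X _ _)

/-- the class over `ℤ` -/
noncomputable def gmZ (d : ℤ) (i : ℕ) : MvPolynomial V ℤ :=
  MvPolynomial.C d * MvPolynomial.X (.inl i) -
    ∑ l ∈ Finset.range i, MvPolynomial.X (.inr (l, i))

theorem mk_Pl (x₀ : P) (m i : ℕ) (N : Λ) :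
    Ideal.Quotient.mk (D.N m) (Pl N i) =
      Ideal.Quotient.mk (D.N m) (D.φ x₀ (gmZ (D.deg N) i)) := by
  have h1 : D.φ x₀ (gmZ (D.deg N) i) =
      MvPolynomial.C (D.deg N) * MvPolynomial.X (.inl (i, D.O x₀)) -
        ∑ l ∈ Finset.range i, MvPolynomial.X (.inr (l, i)) := by
    simp only [gmZ, Geo.φ, map_sub, map_mul, map_sum, MvPolynomial.rename_X, MvPolynomial.rename_C]
    rfl
  rw [h1, Pl, map_sub, map_sub, D.mk_eq x₀ m i N]

theorem J_hs (x₀ : P) (m n j : ℕ) (N : Λ) :
    D.J m (hs (Pl N) n j) = D.J m (D.φ x₀ (hs (gmZ (D.deg N)) n j)) := by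
  apply D.J_eq_of_mk
  have e1 := map_hs (Ideal.Quotient.mk (D.N m)) (Pl N) n j
  have e2 := map_hs ((Ideal.Quotient.mk (D.N m)).comp (D.φ x₀ : _ →+* _)) (gmZ (D.deg N)) n j
  refine e1.trans (Eq.trans ?_ e2.symm)
  have : (fun l => Ideal.Quotient.mk (D.N m) (Pl N l)) =
      fun l => ((Ideal.Quotient.mk (D.N m)).comp (D.φ x₀ : _ →+* _)) (gmZ (D.deg N) l) := by
    funext l
    exact mk_Pl D x₀ m l N
  rw [this]

theorem map_gmZ (d : ℤ) (i : ℕ) : MvPolynomial.map (Int.castRingHom ℚ) (gmZ d i) = gm (d : ℚ) i := by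
  rw [gmZ, gm, map_sub, map_mul, map_sum, MvPolynomial.map_C, MvPolynomial.map_X]
  congr 1
  refine Finset.sum_congr rfl fun l hl => ?_
  have := Finset.mem_range.mp hl
  rw [MvPolynomial.map_X, δ, min_eq_left this.le, max_eq_right this.le]

theorem I_hs' {κ : ℚ} (g a : ℕ) (hga : g ≤ a) (n : ℚ) (hn : n + 1 = 2 * a + g)
    (hκ : κ = 2 - 2 * (g : ℚ)) (D : Num κ) : D.I a (hs (gm n) a a) = a.factorial * 2 ^ g := by
  subst hκ
  exact Num.I_hs g a hga n hn D

/-- The abstract form of the count. -/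
theorem J_sum_hs (x₀ : P) (g n : ℕ) (hgn : g ≤ n) (hω : D.deg D.ω = 2 - 2 * (g : ℤ)) (N : Λ)
    (hN : D.deg N = 2 * (n : ℤ) - 1 + g) :
    D.J n (∑ j ∈ Finset.range (n + 1), hs (Pl N) n j) = (n.factorial : ℤ) * 2 ^ g := by
  have hκ : ((D.deg D.ω : ℤ) : ℚ) = 2 - 2 * (g : ℚ) := by
    rw [hω]
    push_cast
    ring
  have hd : ((D.deg N : ℤ) : ℚ) + 1 = 2 * (n : ℚ) + g := by
    rw [hN]
    push_cast
    ring
  have h1 := I_hs' g n hgn _ hd hκ (D.toNum x₀)
  have h2 : ∀ j, ((D.J n (hs (Pl N) n j) : ℤ) : ℚ) = (D.toNum x₀).I n (hs (gm (D.deg N : ℚ)) n j) := by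
    intro j
    rw [J_hs D x₀, ← D.I_map x₀]
    change D.I x₀ n _ = D.I x₀ n _
    congr 1
    rw [map_hs (MvPolynomial.map (Int.castRingHom ℚ))]
    have : (fun l => MvPolynomial.map (Int.castRingHom ℚ) (gmZ (D.deg N) l)) =
        gm ((D.deg N : ℤ) : ℚ) := by
      funext l
      exact map_gmZ _ l
    rw [this]
  have h3 : ((D.J n (∑ j ∈ Finset.range (n + 1), hs (Pl N) n j) : ℤ) : ℚ) =
      (n.factorial : ℚ) * 2 ^ g := by
    rw [map_sum, Int.cast_sum, Finset.sum_range_succ, Finset.sum_eq_zero, zero_add, h2, h1]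
    intro j hj
    have := Finset.mem_range.mp hj
    rw [h2]
    exact (D.toNum x₀).I_homog n j _ (isHomogeneous_hs (isHomogeneous_gm _) n j) (by omega)
  exact_mod_cast h3

end abs

/-! ### geometric part -/

section geom

variable {k : Type u} [Field k]

theorem degT_eq_dg (T : Over (Spec (CommRingCat.of k))) [IsProper T.hom] (a : GT T) :
    degT T a = dg T a := by
  have h1 : (K308.Grp.cl (dlt T)) (cl_surjective (dlt T) a).choose = a :=
    (cl_surjective (dlt T) a).choose_spec
  have h2 := degG_cl T.hom (dl_setup T) (dl_compat T) (cl_surjective (dlt T) a).choose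
  refine Eq.trans h2.symm ?_
  exact congrArg (dg T) h1

theorem fund_eq_fd (T : Over (Spec (CommRingCat.of k))) [LocallyOfFiniteType T.hom]
    [IsIntegral T.left] : fund T = fd T := by
  have h1 : K306.PtCyc.ptCyc (genericPoint T.left) = fc T := by
    ext x
    rw [coe_fc, dm, fund_apply (dl_setup T).2.2]
    by_cases hx : x = genericPoint T.left
    · rw [if_pos hx, hx, K306.PtCyc.ptCyc_self]
    · rw [if_neg hx, K306.PtCyc.ptCyc_of_ne hx]
  change K308.Grp.cl (dlt T) (K306.PtCyc.ptCyc (genericPoint T.left)) = K308.Grp.cl (dl T) (fc T)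
  rw [h1]
  rfl

variable [IsAlgClosed k] (C : Over (Spec (CommRingCat.of k)))
  [IsIntegral C.left] [IsProper C.hom] [Smooth C.hom] (hdim : topologicalKrullDim C.left = 1)

theorem exists_point : Nonempty (pt (Spec (CommRingCat.of k)) ⟶ C) := by
  have hc : CompactSpace C.left := (quasiCompact_iff_compactSpace C.hom).mp inferInstance
  obtain ⟨z, -, hz⟩ := (isClosed_univ (X := C.left)).exists_closed_singleton Set.univ_nonempty
  exact ⟨(exists_pt z hz).exists.choose⟩

include hdim in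
/-- The first Chern class of `tw N (cl C n j) (crd C n i)`. -/
theorem C1_tw {N : C.left.Modules} (hN : PicF.IsInvertible N) (n i : ℕ) (hi : i < n) :
    ∀ j, j ≤ i → C1 (dl (Pw C n)) (tw N (cl C n j) (crd C n ⟨i, hi⟩)) =
      ops (dl (Pw C n)) (md C n) (MvPolynomial.X (.inl (i, (⟨N, hN⟩ : LB C))) -
        ∑ l ∈ Finset.range j, MvPolynomial.X (.inr (l, i))) := by
  intro j
  induction j with
  | zero =>
    intro _
    rw [Finset.range_zero, Finset.sum_empty, sub_zero, ops_X]
    change _ = C1 (dl (Pw C n)) (md C n (.inl (i, (⟨N, hN⟩ : LB C))))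
    rw [md_inl C hi]
    rfl
  | succ j ih =>
    intro hj
    have hji : j < i := hj
    have hjn : j < n := hji.trans hi
    have e : cl C n (j + 1) = crd C n ⟨j, hjn⟩ :: cl C n j := by
      rw [K553.Sub.cl, dif_pos hjn]
    rw [e]
    change C1 (dl (Pw C n)) (CohB1.tensorMod (D (crd C n ⟨j, hjn⟩) (crd C n ⟨i, hi⟩))
      (tw N (cl C n j) (crd C n ⟨i, hi⟩))) = _
    rw [C1_tensor (dl_setup _) (isInvertible_D C hdim _ _) (isInvertible_tw C hdim N hN _ _),
      ih hji.le, Finset.sum_range_succ, ← sub_sub, map_sub (ops (dl (Pw C n)) (md C n)) (_ - _),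
      ops_X]
    change _ = _ - (- C1 (dl (Pw C n)) (md C n (.inr (j, i))))
    rw [md_inr C hji hi, sub_neg_eq_add, add_comm]

end geom

end Groth.Agent.VBCurve.K323.SubChow

namespace K553.Sub

open Groth.Agent.VBCurve.K323.SubChow Groth.Agent.VBCurve.K323.TautNum
open Groth.Agent.VBCurve.K323 Groth.Agent.VBCurve.K323.SubAbs

variable {k : Type u} [Field k] [IsAlgClosed k] (C : Over (Spec (CommRingCat.of k)))
  [IsIntegral C.left] [IsProper C.hom] [Smooth C.hom] (hdim : topologicalKrullDim C.left = 1)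

include hdim in
theorem degT_num {g : ℕ} (hgen : Curv2.genus k C.left = g) (n : ℕ) (hgn : g ≤ n) [IsProper (Pw C n).hom]
    [IsIntegral (Pw C n).left] (N : C.left.Modules) (hN : PicF.IsInvertible N)
    (hd : Curv2.deg k C.left N 1 = 2 * (n : ℤ) - 1 + g)
    (B : ℕ → AddMonoid.End (GT (Pw C n))) (h0 : B 0 = 1)
    (hs : ∀ (i : ℕ) (hi : i < n), (1 + ell N (cl C n i) (crd C n ⟨i, hi⟩)) * B (i + 1) = B i) :
    degT (Pw C n) (B n (fund (Pw C n))) = (n.factorial : ℤ) * 2 ^ g := by
  obtain ⟨x₀⟩ := exists_point C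
  have hdm : dm (Pw C n) = n := dm_eq (Pw C n) (dim_Pw C hdim n)
  let N' : LB C := ⟨N, hN⟩
  let O := ops (dl (Pw C n)) (md C n)
  have hell : ∀ (i : ℕ) (hi : i < n), ell N (cl C n i) (crd C n ⟨i, hi⟩) = - O (Pl N' i) := by
    intro i hi
    have h1 := C1_tw C hdim hN n i hi i le_rfl
    exact congrArg Neg.neg h1
  have hB : ∀ i, i ≤ n → B i = O (∑ j ∈ Finset.range (n + 1), TautNum.hs (Pl N') i j) := by
    intro i
    induction i with
    | zero =>
      intro _
      rw [h0, sum_hs_zero, map_one]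
      rfl
    | succ i ih =>
      intro hi
      have h1 := hs i hi
      rw [ih (by omega), hell i hi] at h1
      have h2 : O (Pl N' i * TautNum.hs (Pl N') (i + 1) n) = 0 := by
        refine ops_eq_zero (Pw C n) (md C n) (d := n + 1) ?_ (by rw [hdm]; push_cast; omega)
        have := (hom_Pl N' i).mul (hom_hs (hom_Pl N') (i + 1) n)
        rwa [add_comm 1 n] at this
      have h3 : (1 + - O (Pl N' i)) *
          O (∑ j ∈ Finset.range (n + 1), TautNum.hs (Pl N') (i + 1) j) =
          O (∑ j ∈ Finset.range (n + 1), TautNum.hs (Pl N') i j) := by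
        have h4 := congrArg O (sum_hs_step (Pl N') n i)
        rw [map_mul, map_sub O 1, map_one, map_sub O (∑ j ∈ Finset.range (n + 1), _), h2,
          sub_zero] at h4
        rw [← sub_eq_add_neg]
        exact h4
      have h5 : IsNilpotent (O (Pl N' i)) := by
        refine ⟨n + 1, ?_⟩
        rw [← map_pow]
        refine ops_eq_zero (Pw C n) (md C n) (d := n + 1) ?_ (by rw [hdm]; push_cast; omega)
        have := (hom_Pl N' i).pow (n + 1)
        rwa [one_mul] at this
      have h6 : IsUnit (1 + - O (Pl N' i)) := by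
        rw [← sub_eq_add_neg]
        exact h5.isUnit_one_sub
      exact h6.mul_left_cancel (h1.trans h3.symm)
  rw [hB n le_rfl, degT_eq_dg, fund_eq_fd]
  have h7 := J_sum_hs (geo C hdim) x₀ g n hgn (deg_tgt C hdim hgen) N' hd
  exact h7

end K553.Sub
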