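import Groth.Agent.VBCurve.K323.TautRel

/-!
# The numerical relations between points and diagonals: the four basic products
-/

set_option autoImplicit false

open MvPolynomial

namespace Groth.Agent.VBCurve.K323.TautNum

namespace Num

variable {κ : ℚ} (D : Num κ)

theorem I_τ_low {m i : ℕ} (hi : i < m) {q : R} (hq : q ∈ Low m) :
    D.I (m + 1) (τ i m * q) = 0 := by
  have e : τ i m * q = h i * q + h m * q - δ i m * q := by
    rw [τ]
    ring
  rw [e, map_sub, map_add, D.low' (mul_mem (h_low hi) hq), D.I_pt_low hq, D.I_dg_low hi hq]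
  ring

theorem I_h_τ {m i : ℕ} (hi : i < m) (q : R) : D.I (m + 1) (h m * (τ i m * q)) = 0 := by
  rw [D.pt, map_mul, ptSub_τ_last hi, zero_mul, map_zero]

theorem hh (m : ℕ) : ∀ i, i < m → h i * h i ∈ D.N m := by
  induction m with
  | zero => intro i hi; omega
  | succ m ih =>
    intro i hi
    rcases Nat.lt_succ_iff_lt_or_eq.mp hi with hi | rfl
    · exact D.N_low (ih i hi) (mul_mem (h_low hi) (h_low hi))
    · refine D.mem_N_succ (fun q hq => ?_) ?_ fun j hj => ?_
      · rw [mul_assoc, D.pt, map_mul, ptSub_h_self, zero_mul, map_zero]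
      · rw [map_mul, ptSub_h_self, zero_mul]
        exact zero_mem _
      · rw [map_mul, dgSub_h_self]
        exact ih j hj

theorem hτ (m : ℕ) : ∀ i j, i < m → j < m → i ≠ j → h i * τ i j ∈ D.N m := by
  induction m with
  | zero => intro i j hi; omega
  | succ m ih =>
    intro i j hi hj hij
    rcases Nat.lt_succ_iff_lt_or_eq.mp hi with hi | rfl
    · rcases Nat.lt_succ_iff_lt_or_eq.mp hj with hj | rfl
      · exact D.N_low (ih i j hi hj hij) (mul_mem (h_low hi) (τ_low hi hj))
      · refine D.mem_N_succ (fun q hq => ?_) ?_ fun l hl => ?_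
        · rw [show h i * τ i j * q = τ i j * (h i * q) by ring]
          exact D.I_τ_low hi (mul_mem (h_low hi) hq)
        · rw [map_mul, ptSub_τ_last hi, mul_zero]
          exact zero_mem _
        · rw [map_mul, dgSub_h κ _ _ _ hi.ne]
          by_cases hil : i = l
          · subst hil
            rw [dgSub_τ_self hi, mul_left_comm]
            exact Ideal.mul_mem_left _ _ (D.hh _ _ hi)
          · rw [dgSub_τ_last hi hil]
            exact ih i l hi hl hil
    · have hj : j < i := by omega
      refine D.mem_N_succ (fun q hq => ?_) ?_ fun l hl => ?_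
      · rw [τ_comm, mul_assoc]
        exact D.I_h_τ hj q
      · rw [map_mul, ptSub_h_self, zero_mul]
        exact zero_mem _
      · rw [map_mul, dgSub_h_self, τ_comm]
        by_cases hjl : j = l
        · subst hjl
          rw [dgSub_τ_self hj, mul_left_comm]
          exact Ideal.mul_mem_left _ _ (D.hh _ _ hj)
        · rw [dgSub_τ_last hj hjl, τ_comm]
          exact ih l j hl hj (Ne.symm hjl)

theorem ττ (m : ℕ) : ∀ i j, i < m → j < m → i ≠ j →
    τ i j * τ i j + C (2 - κ) * (h i * h j) ∈ D.N m := by
  induction m with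
  | zero => intro i j hi; omega
  | succ m ih =>
    have key : ∀ i, i < m → τ i m * τ i m + C (2 - κ) * (h i * h m) ∈ D.N (m + 1) := by
      intro i hi
      refine D.mem_N_succ (fun q hq => ?_) ?_ fun l hl => ?_
      · have e : (τ i m * τ i m + C (2 - κ) * (h i * h m)) * q =
            τ i m * (h i * q) + h m * (τ i m * q) - δ i m * (τ i m * q) +
              h m * (C (2 - κ) * h i * q) := by
          conv_lhs => rw [show τ i m * τ i m = (h i + h m - δ i m) * τ i m from rfl]
          ring
        have hC : (C (2 - κ) : R) ∈ Low m := Subalgebra.algebraMap_mem _ _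
        rw [e, map_add, map_sub, map_add, D.I_τ_low hi (mul_mem (h_low hi) hq), D.I_h_τ hi,
          D.dg _ _ _ hi, map_mul, dgSub_τ_self hi, dgSub_low κ i hq,
          D.I_pt_low (mul_mem (mul_mem hC (h_low hi)) hq)]
        ring
      · rw [map_add, map_mul, map_mul, map_mul, ptSub_τ_last hi, ptSub_h_self]
        simp
      · have hC : dgSub κ m l (C (2 - κ)) = C (2 - κ) :=
          dgSub_low κ l (Subalgebra.algebraMap_mem _ _)
        rw [map_add, map_mul, map_mul, map_mul, hC, dgSub_h κ _ _ _ hi.ne, dgSub_h_self]
        by_cases hil : i = l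
        · subst hil
          rw [dgSub_τ_self hi]
          have e : C (2 - κ) * h i * (C (2 - κ) * h i) + C (2 - κ) * (h i * h i) =
              (C (2 - κ) * C (2 - κ) + C (2 - κ)) * (h i * h i) := by ring
          rw [e]
          exact Ideal.mul_mem_left _ _ (D.hh _ _ hi)
        · rw [dgSub_τ_last hi hil]
          exact ih i l hi hl hil
    intro i j hi hj hij
    rcases Nat.lt_succ_iff_lt_or_eq.mp hi with hi | rfl
    · rcases Nat.lt_succ_iff_lt_or_eq.mp hj with hj | rfl
      · refine D.N_low (ih i j hi hj hij) (add_mem (mul_mem (τ_low hi hj) (τ_low hi hj))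
          (mul_mem (Subalgebra.algebraMap_mem _ _) (mul_mem (h_low hi) (h_low hj))))
      · exact key i hi
    · have hj : j < i := by omega
      rw [τ_comm i j, mul_comm (h i)]
      exact key j hj

theorem τττ (m : ℕ) : ∀ i j l, i < m → j < m → l < m → i ≠ j → i ≠ l → j ≠ l →
    τ i j * τ i l + h i * τ j l ∈ D.N m := by
  induction m with
  | zero => intro i j l hi; omega
  | succ m ih =>
    -- the case `j = m`
    have key : ∀ i l, i < m → l < m → i ≠ l →
        τ i m * τ i l + h i * τ l m ∈ D.N (m + 1) := by
      intro i l hi hl hil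
      refine D.mem_N_succ (fun q hq => ?_) ?_ fun p hp => ?_
      · have e : (τ i m * τ i l + h i * τ l m) * q = τ i m * (τ i l * q) + τ l m * (h i * q) := by
          ring
        rw [e, map_add, D.I_τ_low hi (mul_mem (τ_low hi hl) hq),
          D.I_τ_low hl (mul_mem (h_low hi) hq), add_zero]
      · rw [map_add, map_mul, map_mul, ptSub_τ_last hi, ptSub_τ_last hl]
        simp
      · rw [map_add, map_mul, map_mul, dgSub_τ hi hl, dgSub_h κ _ _ _ hi.ne]
        by_cases hip : i = p
        · subst hip
          rw [dgSub_τ_self hi, dgSub_τ_last hl (Ne.symm hil), τ_comm l i]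
          have e : C (2 - κ) * h i * τ i l + h i * τ i l = (C (2 - κ) + 1) * (h i * τ i l) := by
            ring
          rw [e]
          exact Ideal.mul_mem_left _ _ (D.hτ _ _ _ hi hl hil)
        · by_cases hlp : l = p
          · subst hlp
            rw [dgSub_τ_last hi hil, dgSub_τ_self hl]
            have e : τ i l * τ i l + h i * (C (2 - κ) * h l) =
              τ i l * τ i l + C (2 - κ) * (h i * h l) := by ring
            rw [e]
            exact D.ττ _ _ _ hi hl hil
          · rw [dgSub_τ_last hi hip, dgSub_τ_last hl hlp, τ_comm l p]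
            exact ih i p l hi hp hl hip hil (Ne.symm hlp)
    intro i j l hi hj hl hij hil hjl
    rcases Nat.lt_succ_iff_lt_or_eq.mp hi with hi | rfl
    · rcases Nat.lt_succ_iff_lt_or_eq.mp hj with hj | rfl
      · rcases Nat.lt_succ_iff_lt_or_eq.mp hl with hl | rfl
        · exact D.N_low (ih i j l hi hj hl hij hil hjl)
            (add_mem (mul_mem (τ_low hi hj) (τ_low hi hl)) (mul_mem (h_low hi) (τ_low hj hl)))
        · rw [mul_comm (τ i j)]
          exact key i j hi hj hij
      · have hl : l < j := by omega
        rw [τ_comm j l]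
        exact key i l hi hl hil
    · have hj : j < i := by omega
      have hl : l < i := by omega
      refine D.mem_N_succ (fun q hq => ?_) ?_ fun p hp => ?_
      · have e : (τ i j * τ i l + h i * τ j l) * q =
            τ l i * (h j * q) + h i * (τ l i * q) - δ j i * (τ l i * q) + h i * (τ j l * q) := by
          rw [τ_comm i j, τ_comm i l]
          conv_lhs => rw [show τ j i * τ l i = (h j + h i - δ j i) * τ l i from rfl]
          ring
        rw [e, map_add, map_sub, map_add, D.I_τ_low hl (mul_mem (h_low hj) hq), D.I_h_τ hl,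
          D.dg _ _ _ hj, map_mul, dgSub_τ_last hl (Ne.symm hjl), dgSub_low κ j hq,
          D.I_pt_low (mul_mem (τ_low hj hl) hq), τ_comm l j]
        ring
      · rw [τ_comm i j, map_add, map_mul, map_mul, ptSub_τ_last hj, ptSub_h_self]
        simp
      · rw [τ_comm i j, τ_comm i l, map_add, map_mul, map_mul, dgSub_h_self, dgSub_τ hj hl]
        by_cases hjp : j = p
        · subst hjp
          rw [dgSub_τ_self hj, dgSub_τ_last hl (Ne.symm hjl), τ_comm l j]
          have e : C (2 - κ) * h j * τ j l + h j * τ j l = (C (2 - κ) + 1) * (h j * τ j l) := by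
            ring
          rw [e]
          exact Ideal.mul_mem_left _ _ (D.hτ _ _ _ hj hl hjl)
        · by_cases hlp : l = p
          · subst hlp
            rw [dgSub_τ_last hj hjp, dgSub_τ_self hl, τ_comm j l]
            have e : τ l j * (C (2 - κ) * h l) + h l * τ l j =
                (C (2 - κ) + 1) * (h l * τ l j) := by ring
            rw [e]
            exact Ideal.mul_mem_left _ _ (D.hτ _ _ _ hl hj (Ne.symm hjl))
          · rw [dgSub_τ_last hj hjp, dgSub_τ_last hl hlp, τ_comm j p, τ_comm l p]
            exact ih p j l hp hj hl (Ne.symm hjp) (Ne.symm hlp) hjl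

end Num

end Groth.Agent.VBCurve.K323.TautNum
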