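import Groth.Agent.VBCurve.K323.TautHH

/-!
# The top number
-/

set_option autoImplicit false

open MvPolynomial

namespace Groth.Agent.VBCurve.K323.TautNum

/-- `∑ i < m, τ i m` -/
noncomputable def T (m : ℕ) : R := ∑ i ∈ Finset.range m, Num.τ i m

noncomputable def H (m : ℕ) : R := ∑ i ∈ Finset.range m, h i

noncomputable def θ (g : ℚ) : ℕ → R
  | 0 => 0
  | m + 1 => θ g m + C g * h m + T m

theorem H_succ (m : ℕ) : H (m + 1) = H m + h m := by
  rw [H, H, Finset.sum_range_succ]

theorem H_low (m : ℕ) : H m ∈ Low m :=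
  sum_mem fun _ hi => h_low (Finset.mem_range.mp hi)

theorem T_low (m : ℕ) : T m ∈ Low (m + 1) :=
  sum_mem fun _ hi => Num.τ_low (by have := Finset.mem_range.mp hi; omega) (by omega)

theorem θ_low (g : ℚ) (m : ℕ) : θ g m ∈ Low m := by
  induction m with
  | zero => exact zero_mem _
  | succ m ih =>
    exact add_mem (add_mem (low_mono (Nat.le_succ m) ih)
      (mul_mem (Subalgebra.algebraMap_mem _ _) (h_low (by omega)))) (T_low m)

theorem isHomogeneous_τ (i j : ℕ) : (Num.τ i j).IsHomogeneous 1 :=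
  ((Num.isHomogeneous_h i).add (Num.isHomogeneous_h j)).sub (Num.isHomogeneous_δ i j)

theorem isHomogeneous_H (m : ℕ) : (H m).IsHomogeneous 1 :=
  IsHomogeneous.sum _ _ _ fun i _ => Num.isHomogeneous_h i

theorem isHomogeneous_θ (g : ℚ) (m : ℕ) : (θ g m).IsHomogeneous 1 := by
  induction m with
  | zero => exact isHomogeneous_zero _ _ _
  | succ m ih =>
    refine (ih.add ?_).add (IsHomogeneous.sum _ _ _ fun i _ => isHomogeneous_τ i m)
    have := (isHomogeneous_C V g).mul (Num.isHomogeneous_h m)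
    rwa [zero_add] at this

/-- `1 + λ_m` -/
noncomputable def L (n : ℚ) (m : ℕ) : R := 1 - (C n * h m - ∑ i ∈ Finset.range m, δ i m)

theorem L_eq (n : ℚ) (m : ℕ) : L n m = 1 + H m - C (n - m) * h m - T m := by
  have : T m = H m + (m : R) * h m - ∑ i ∈ Finset.range m, δ i m := by
    rw [T, H]
    simp only [Num.τ, Finset.sum_sub_distrib, Finset.sum_add_distrib, Finset.sum_const,
      Finset.card_range, nsmul_eq_mul]
  rw [L, this, C_sub]
  have e : (C (m : ℚ) : R) = (m : R) := by simp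
  rw [e]
  ring

theorem L_low (n : ℚ) (m : ℕ) : L n m ∈ Low (m + 1) := by
  refine sub_mem (one_mem _) (sub_mem (mul_mem (Subalgebra.algebraMap_mem _ _)
    (h_low (by omega))) (sum_mem fun i hi => δ_low ?_ (by omega)))
  have := Finset.mem_range.mp hi
  omega

theorem E_low (m a w : ℕ) {t u : R} (ht : t ∈ Low m) (hu : u ∈ Low m) : E a w t u ∈ Low m :=
  sum_mem fun _ _ => mul_mem (Subalgebra.algebraMap_mem _ _) (mul_mem (pow_mem ht _) (pow_mem hu _))

theorem map_E {A B : Type*} [CommRing A] [Algebra ℚ A] [CommRing B] [Algebra ℚ B] (f : A →ₐ[ℚ] B)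
    (a w : ℕ) (t u : A) : f (E a w t u) = E a w (f t) (f u) := by
  simp [E, map_sum, map_mul, map_pow]

namespace Num

variable {g : ℚ} (D : Num (2 - 2 * g))

theorem hT_mem (m : ℕ) : h m * T m ∈ D.N (m + 1) := by
  rw [T, Finset.mul_sum]
  refine Ideal.sum_mem _ fun i hi => ?_
  have := Finset.mem_range.mp hi
  rw [τ_comm]
  exact D.hτ _ _ _ (by omega) (by omega) (by omega)

theorem TT_aux (m n : ℕ) (hn : n ≤ m) :
    (∑ i ∈ Finset.range n, τ i m) * (∑ i ∈ Finset.range n, τ i m) + 2 * (h m * θ g n) ∈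
      D.N (m + 1) := by
  induction n with
  | zero => simp [θ]
  | succ n ih =>
    rw [Finset.sum_range_succ]
    set S : R := ∑ i ∈ Finset.range n, τ i m with hS
    have h1 := ih (by omega)
    have h2 : S * τ n m + h m * T n ∈ D.N (m + 1) := by
      rw [hS, T, Finset.sum_mul, Finset.mul_sum, ← Finset.sum_add_distrib]
      refine Ideal.sum_mem _ fun i hi => ?_
      have := Finset.mem_range.mp hi
      rw [τ_comm i m, τ_comm n m]
      exact D.τττ _ m i n (by omega) (by omega) (by omega) (by omega) (by omega) (by omega)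
    have h3 := D.ττ (m + 1) n m (by omega) (by omega) (by omega)
    have e : (S + τ n m) * (S + τ n m) + 2 * (h m * θ g (n + 1)) =
        (S * S + 2 * (h m * θ g n)) + 2 * (S * τ n m + h m * T n) +
          (τ n m * τ n m + C (2 - (2 - 2 * g)) * (h n * h m)) := by
      have e1 : (C (2 - (2 - 2 * g)) : R) = 2 * C g := by
        rw [show (2 : ℚ) - (2 - 2 * g) = 2 * g by ring, C_mul]
        rfl
      rw [e1, θ]
      ring
    rw [e]
    exact add_mem (add_mem h1 (Ideal.mul_mem_left _ _ h2)) h3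

theorem TT_mem (m : ℕ) : T m * T m + 2 * (h m * θ g m) ∈ D.N (m + 1) := D.TT_aux m m le_rfl

theorem θ_pow_mem (m k : ℕ) (hk : m < k) : θ g m ^ k ∈ D.N m := by
  refine D.mem_N_of_degree (d := k) ?_ hk
  have := (isHomogeneous_θ g m).pow k
  rwa [one_mul] at this

theorem N_low_le {m a : ℕ} (ha : m ≤ a) {r : R} (hr : r ∈ D.N m) (hl : r ∈ Low m) :
    r ∈ D.N a := by
  induction a, ha using Nat.le_induction with
  | base => exact hr
  | succ n hn ih => exact D.N_low ih (low_mono hn hl)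

theorem E_step_mem (a w m : ℕ) (ham : m + 1 ≤ a) (haw : a ≤ w) (n : ℚ) (hn : n = w + g + m) :
    L n m * E a w (θ g (m + 1)) (1 + H (m + 1)) - E a (w + 1) (θ g m) (1 + H m) ∈ D.N a := by
  refine D.N_low_le ham ?_ ?_
  · rw [← Ideal.Quotient.eq_zero_iff_mem]
    have hx : Ideal.Quotient.mk (D.N (m + 1)) (h m) * Ideal.Quotient.mk (D.N (m + 1)) (h m) = 0 := by
      rw [← map_mul]
      exact Ideal.Quotient.eq_zero_iff_mem.mpr (D.hh _ _ (by omega))
    have hxT : Ideal.Quotient.mk (D.N (m + 1)) (h m) * Ideal.Quotient.mk (D.N (m + 1)) (T m) =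
        0 := by
      rw [← map_mul]
      exact Ideal.Quotient.eq_zero_iff_mem.mpr (D.hT_mem m)
    have hT : Ideal.Quotient.mk (D.N (m + 1)) (T m) * Ideal.Quotient.mk (D.N (m + 1)) (T m) =
        -2 * (Ideal.Quotient.mk (D.N (m + 1)) (h m) *
          Ideal.Quotient.mk (D.N (m + 1)) (θ g m)) := by
      have := Ideal.Quotient.eq_zero_iff_mem.mpr (D.TT_mem m)
      rw [map_add, map_mul, map_mul, map_mul, map_ofNat] at this
      linear_combination this
    have hθ : Ideal.Quotient.mk (D.N (m + 1)) (θ g m) ^ a = 0 := by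
      rw [← map_pow]
      exact Ideal.Quotient.eq_zero_iff_mem.mpr
        (D.N_low_le (Nat.le_succ m) (D.θ_pow_mem m a ham) (pow_mem (θ_low g m) _))
    have key := E_step (u := Ideal.Quotient.mk (D.N (m + 1)) (1 + H m)) hx hxT hT g a w haw hθ
    have e0 : ∀ c : ℚ, algebraMap ℚ (R ⧸ D.N (m + 1)) c = Ideal.Quotient.mk _ (C c) := fun _ => rfl
    have mE : ∀ t u : R, Ideal.Quotient.mk (D.N (m + 1)) (E a w t u) =
        E a w (Ideal.Quotient.mk (D.N (m + 1)) t) (Ideal.Quotient.mk (D.N (m + 1)) u) := fun t u =>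
      map_E (Ideal.Quotient.mkₐ ℚ (D.N (m + 1))) a w t u
    have mE' : ∀ t u : R, Ideal.Quotient.mk (D.N (m + 1)) (E a (w + 1) t u) =
        E a (w + 1) (Ideal.Quotient.mk (D.N (m + 1)) t)
          (Ideal.Quotient.mk (D.N (m + 1)) u) := fun t u =>
      map_E (Ideal.Quotient.mkₐ ℚ (D.N (m + 1))) a (w + 1) t u
    rw [map_sub, map_mul, mE, mE', ← key, e0, e0, H_succ, ← map_mul, ← map_mul, ← map_add,
      ← map_add, ← map_sub, ← map_sub, ← map_add, L_eq]
    have e1 : θ g m + C g * h m + T m = θ g (m + 1) := rfl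
    have e2 : n - m = w + g := by
      rw [hn]
      ring
    rw [e1, e2, add_assoc 1 (H m)]
    exact sub_self _
  · refine sub_mem (mul_mem (L_low n m) (E_low _ _ _ (θ_low g _) (add_mem (one_mem _) (H_low _))))
      (E_low _ _ _ (low_mono (Nat.le_succ m) (θ_low g m))
        (add_mem (one_mem _) (low_mono (Nat.le_succ m) (H_low m))))

theorem prod_E_mem (a W : ℕ) (hW : 2 * a ≤ W) (n : ℚ) (hn : n + 1 = W + g) (m : ℕ) (hm : m ≤ a) :
    (∏ i ∈ Finset.range m, L n i) * E a (W - m) (θ g m) (1 + H m) - 1 ∈ D.N a := by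
  induction m with
  | zero =>
    have : E a W (θ g 0) (1 + H 0) = 1 := by
      rw [E, Finset.sum_range_succ']
      simp [θ, H]
    rw [Finset.prod_range_zero, Nat.sub_zero, this]
    simp
  | succ m ih =>
    have h1 := ih (by omega)
    have e : W - m = (W - (m + 1)) + 1 := by omega
    have h2 := D.E_step_mem a (W - (m + 1)) m hm (by omega) n (by
      have : ((W - (m + 1) : ℕ) : ℚ) = W - (m + 1) := by
        rw [Nat.cast_sub (by omega)]
        push_cast
        ring
      rw [this]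
      linear_combination hn)
    rw [← e] at h2
    rw [Finset.prod_range_succ]
    have e3 : (∏ i ∈ Finset.range m, L n i) * L n m *
        E a (W - (m + 1)) (θ g (m + 1)) (1 + H (m + 1)) - 1 =
        (∏ i ∈ Finset.range m, L n i) * (L n m *
          E a (W - (m + 1)) (θ g (m + 1)) (1 + H (m + 1)) - E a (W - m) (θ g m) (1 + H m)) +
        ((∏ i ∈ Finset.range m, L n i) * E a (W - m) (θ g m) (1 + H m) - 1) := by ring
    rw [e3]
    exact add_mem (Ideal.mul_mem_left _ _ h2) h1

/-- the inverse of `1 + λ_i` -/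
theorem L_mul_sum_mem (a : ℕ) (n : ℚ) (i : ℕ) :
    L n i * (∑ j ∈ Finset.range (a + 1), (C n * h i - ∑ l ∈ Finset.range i, δ l i) ^ j) - 1 ∈
      D.N a := by
  rw [L, mul_neg_geom_sum]
  have e : (1 : R) - (C n * h i - ∑ l ∈ Finset.range i, δ l i) ^ (a + 1) - 1 =
      -(C n * h i - ∑ l ∈ Finset.range i, δ l i) ^ (a + 1) := by ring
  rw [e]
  refine neg_mem (D.mem_N_of_degree (d := a + 1) ?_ (by omega))
  have h1 : (C n * h i : R).IsHomogeneous 1 := by
    have := (isHomogeneous_C V n).mul (Num.isHomogeneous_h i)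
    rwa [zero_add] at this
  have := (h1.sub (IsHomogeneous.sum (Finset.range i) (fun l => δ l i) 1
    fun l _ => isHomogeneous_δ l i)).pow (a + 1)
  rwa [one_mul] at this

theorem prod_L_mul_sum_mem (a : ℕ) (n : ℚ) (m : ℕ) :
    (∏ i ∈ Finset.range m, L n i) * (∏ i ∈ Finset.range m,
      ∑ j ∈ Finset.range (a + 1), (C n * h i - ∑ l ∈ Finset.range i, δ l i) ^ j) - 1 ∈
      D.N a := by
  induction m with
  | zero => simp
  | succ m ih =>
    rw [Finset.prod_range_succ, Finset.prod_range_succ]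
    have h1 := D.L_mul_sum_mem a n m
    set A : R := ∏ i ∈ Finset.range m, L n i
    set B : R := ∏ i ∈ Finset.range m,
      ∑ j ∈ Finset.range (a + 1), (C n * h i - ∑ l ∈ Finset.range i, δ l i) ^ j
    set c : R := ∑ j ∈ Finset.range (a + 1), (C n * h m - ∑ l ∈ Finset.range m, δ l m) ^ j
    have e : A * L n m * (B * c) - 1 = (A * B) * (L n m * c - 1) + (A * B - 1) := by ring
    rw [e]
    exact add_mem (Ideal.mul_mem_left _ _ h1) ih

theorem I_eq_of_sub_mem {a : ℕ} {p q : R} (hpq : p - q ∈ D.N a) : D.I a p = D.I a q := by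
  have := hpq 1
  rw [mul_one, map_sub, sub_eq_zero] at this
  exact this

theorem sub_mem_of_prod {a : ℕ} {p q s : R} (hp : s * p - 1 ∈ D.N a) (hq : s * q - 1 ∈ D.N a) :
    p - q ∈ D.N a := by
  have e : p - q = q * (s * p - 1) - p * (s * q - 1) := by ring
  rw [e]
  exact sub_mem (Ideal.mul_mem_left _ _ hp) (Ideal.mul_mem_left _ _ hq)

end Num

end Groth.Agent.VBCurve.K323.TautNum
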