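import Mathlib

/-!
# Intersection numbers on the powers of a curve of the classes of points and diagonals

`Num κ` is an abstract family of linear functionals on the polynomials in `h i` (point on the
factor `i`) and `δ i j` (diagonals) obeying the restriction rules of intersection numbers on `C^m`.
The result `topNumber` computes the degree `a` part of
`∏ i < a, 1 / (1 - n h i + ∑ j < i, δ j i)`.
-/

set_option autoImplicit false

open MvPolynomial

namespace Groth.Agent.VBCurve.K323.TautNum

/-- Variables: `inl i` is the point class of the factor `i`, `inr (i, j)` (`i < j`) the diagonal. -/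
abbrev V := ℕ ⊕ (ℕ × ℕ)

abbrev R := MvPolynomial V ℚ

/-- the largest index of a variable -/
def top : V → ℕ
  | .inl i => i
  | .inr p => max p.1 p.2

/-- variables which are not used (`inr (i, j)` with `j ≤ i`) -/
def Bad : V → Prop
  | .inl _ => False
  | .inr p => p.2 ≤ p.1

noncomputable def h (i : ℕ) : R := X (.inl i)

noncomputable def δ (i j : ℕ) : R := X (.inr (min i j, max i j))

theorem δ_comm (i j : ℕ) : δ i j = δ j i := by
  rw [δ, δ, min_comm, max_comm]

/-- restriction to `c_m = point` -/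
noncomputable def ptSub (m : ℕ) : R →ₐ[ℚ] R :=
  aeval fun v => match v with
    | .inl i => if i = m then 0 else X (.inl i)
    | .inr p => if p.2 = m then h p.1 else X (.inr p)

/-- restriction to `c_m = c_j` -/
noncomputable def dgSub (κ : ℚ) (m j : ℕ) : R →ₐ[ℚ] R :=
  aeval fun v => match v with
    | .inl i => if i = m then h j else X (.inl i)
    | .inr p => if p.2 = m then (if p.1 = j then C κ * h j else δ p.1 j) else X (.inr p)

structure Num (κ : ℚ) where
  I : ℕ → R →ₗ[ℚ] ℚ
  one : I 0 1 = 1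
  oor : ∀ (m : ℕ) (v : V) (P : R), (m ≤ top v ∨ Bad v) → I m (X v * P) = 0
  low : ∀ (m : ℕ) (P : R), (∀ v ∈ P.vars, top v < m) → I (m + 1) P = 0
  pt : ∀ (m : ℕ) (P : R), I (m + 1) (h m * P) = I m (ptSub m P)
  dg : ∀ (m j : ℕ) (P : R), j < m → I (m + 1) (δ j m * P) = I m (dgSub κ m j P)

section Sub

theorem ptSub_h_self (m : ℕ) : ptSub m (h m) = 0 := by
  simp [ptSub, h]

theorem ptSub_h (m i : ℕ) (hi : i ≠ m) : ptSub m (h i) = h i := by
  simp [ptSub, h, hi]

theorem ptSub_δ_self (m i : ℕ) (hi : i < m) : ptSub m (δ i m) = h i := by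
  simp [ptSub, h, δ, hi.le]

theorem ptSub_δ (m i j : ℕ) (hi : i < m) (hj : j < m) : ptSub m (δ i j) = δ i j := by
  have : max i j ≠ m := (max_lt hi hj).ne
  simp [ptSub, h, δ, this]

theorem dgSub_h_self (κ : ℚ) (m j : ℕ) : dgSub κ m j (h m) = h j := by
  simp [dgSub, h]

theorem dgSub_h (κ : ℚ) (m j i : ℕ) (hi : i ≠ m) : dgSub κ m j (h i) = h i := by
  simp [dgSub, h, hi]

theorem dgSub_δ_self (κ : ℚ) (m j : ℕ) (hj : j < m) : dgSub κ m j (δ j m) = C κ * h j := by
  simp [dgSub, h, δ, hj.le]

theorem dgSub_δ_last (κ : ℚ) (m j i : ℕ) (hi : i < m) (hij : i ≠ j) :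
    dgSub κ m j (δ i m) = δ i j := by
  rw [δ, dgSub, aeval_X]
  simp [hi.le, hij]

theorem dgSub_δ (κ : ℚ) (m j i l : ℕ) (hi : i < m) (hl : l < m) :
    dgSub κ m j (δ i l) = δ i l := by
  have : max i l ≠ m := (max_lt hi hl).ne
  simp [dgSub, h, δ, this]

/-- polynomials in the variables with indices `< m` -/
noncomputable def Low (m : ℕ) : Subalgebra ℚ R := Algebra.adjoin ℚ (X '' {v | top v < m})

theorem Low.vars {m : ℕ} {P : R} (hP : P ∈ Low m) : ∀ v ∈ P.vars, top v < m := by
  rw [Low, ← MvPolynomial.supported_eq_adjoin_X, MvPolynomial.mem_supported] at hP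
  intro v hv
  exact hP hv

theorem low_of_vars {m : ℕ} {P : R} (hP : ∀ v ∈ P.vars, top v < m) : P ∈ Low m := by
  rw [Low, ← MvPolynomial.supported_eq_adjoin_X, MvPolynomial.mem_supported]
  intro v hv
  exact hP v hv

theorem h_low {m i : ℕ} (hi : i < m) : h i ∈ Low m :=
  Algebra.subset_adjoin ⟨.inl i, hi, rfl⟩

theorem δ_low {m i j : ℕ} (hi : i < m) (hj : j < m) : δ i j ∈ Low m :=
  Algebra.subset_adjoin ⟨.inr (min i j, max i j), by
    change max (min i j) (max i j) < m
    simp [hi, hj], rfl⟩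

theorem low_mono {m n : ℕ} (hmn : m ≤ n) : Low m ≤ Low n :=
  Algebra.adjoin_mono (Set.image_mono fun _ hv => lt_of_lt_of_le hv hmn)

theorem ptSub_low {m : ℕ} {P : R} (hP : P ∈ Low m) : ptSub m P = P := by
  refine Algebra.adjoin_induction (p := fun P _ => ptSub m P = P) ?_ ?_ ?_ ?_ hP
  · rintro _ ⟨v, hv, rfl⟩
    rcases v with i | ⟨i, j⟩
    · exact ptSub_h m i (ne_of_lt hv)
    · have hj : j ≠ m := (lt_of_le_of_lt (le_max_right i j) hv).ne
      simp [ptSub, hj]
  · intro r
    simp
  · intro x y _ _ hx hy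
    rw [map_add, hx, hy]
  · intro x y _ _ hx hy
    rw [map_mul, hx, hy]

theorem dgSub_low (κ : ℚ) {m : ℕ} (j : ℕ) {P : R} (hP : P ∈ Low m) : dgSub κ m j P = P := by
  refine Algebra.adjoin_induction (p := fun P _ => dgSub κ m j P = P) ?_ ?_ ?_ ?_ hP
  · rintro _ ⟨v, hv, rfl⟩
    rcases v with i | ⟨i, l⟩
    · exact dgSub_h κ m j i (ne_of_lt hv)
    · have hj : l ≠ m := (lt_of_le_of_lt (le_max_right i l) hv).ne
      simp [dgSub, hj]
  · intro r
    simp
  · intro x y _ _ hx hy
    rw [map_add, hx, hy]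
  · intro x y _ _ hx hy
    rw [map_mul, hx, hy]

end Sub

/-! ### The algebraic identity -/

section Algebra

variable {A : Type*} [CommRing A] [Algebra ℚ A]

theorem pow_theta {x T θ' : A} (hx : x * x = 0) (hxT : x * T = 0) (hT : T * T = -2 * (x * θ'))
    (g : ℚ) (k : ℕ) :
    (θ' + algebraMap ℚ A g * x + T) ^ (k + 1) = θ' ^ (k + 1) +
      algebraMap ℚ A (k + 1) * (θ' ^ k * T) +
      algebraMap ℚ A ((k + 1) * (g - k)) * (θ' ^ k * x) := by
  induction k with
  | zero =>
    simp
    ring
  | succ k ih =>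
    rw [pow_succ, ih]
    have e1 : θ' ^ k * T * T = -2 * (θ' ^ (k + 1) * x) := by
      rw [mul_assoc, hT]
      ring
    have e2 : θ' ^ k * T * x = 0 := by
      rw [mul_assoc, mul_comm T x, hxT, mul_zero]
    have e3 : θ' ^ k * x * x = 0 := by
      rw [mul_assoc, hx, mul_zero]
    have e4 : θ' ^ k * x * T = 0 := by
      rw [mul_assoc, hxT, mul_zero]
    have e5 : (algebraMap ℚ A (((k + 1 : ℕ) : ℚ) + 1)) = algebraMap ℚ A (k + 1) + 1 := by
      rw [map_add, map_one]
      push_cast
      rfl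
    have e6 : (algebraMap ℚ A ((((k + 1 : ℕ) : ℚ) + 1) * (g - ((k + 1 : ℕ) : ℚ)))) =
        algebraMap ℚ A ((k + 1) * (g - k)) + algebraMap ℚ A g - 2 * algebraMap ℚ A (k + 1) := by
      rw [show (2 : A) = algebraMap ℚ A 2 from (map_ofNat _ 2).symm, ← map_mul, ← map_add, ← map_sub]
      congr 1
      push_cast
      ring
    rw [e5, e6]
    linear_combination (algebraMap ℚ A (k + 1)) * e1 +
      (algebraMap ℚ A (k + 1) * algebraMap ℚ A g) * e2 +
      (algebraMap ℚ A ((k + 1) * (g - k)) * algebraMap ℚ A g) * e3 +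
      algebraMap ℚ A ((k + 1) * (g - k)) * e4

omit [Algebra ℚ A] in
theorem pow_add_sq_zero {x u : A} (hx : x * x = 0) (n : ℕ) :
    (u + x) ^ n = u ^ n + n * (x * u ^ (n - 1)) := by
  induction n with
  | zero => simp
  | succ n ih =>
    rw [pow_succ, ih]
    rcases n with _ | n
    · simp
    · simp only [Nat.add_sub_cancel]
      push_cast
      linear_combination ((n : A) + 1) * u ^ n * hx

/-- the generating polynomial `(1 + H)^w exp (θ / (1 + H))`, truncated -/
noncomputable def E (a w : ℕ) (θ u : A) : A :=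
  ∑ k ∈ Finset.range (a + 1), algebraMap ℚ A (1 / (k.factorial : ℚ)) * (θ ^ k * u ^ (w - k))

theorem E_step {x T θ' u : A} (hx : x * x = 0) (hxT : x * T = 0) (hT : T * T = -2 * (x * θ'))
    (g : ℚ) (a w : ℕ) (haw : a ≤ w) (hθ : θ' ^ a = 0) :
    (u - algebraMap ℚ A (w + g) * x - T) * E a w (θ' + algebraMap ℚ A g * x + T) (u + x) =
      E a (w + 1) θ' u := by
  have key : ∀ N : ℕ, N ≤ w →
      (u - algebraMap ℚ A (w + g) * x - T) *
        ∑ k ∈ Finset.range (N + 1), algebraMap ℚ A (1 / (k.factorial : ℚ)) *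
          ((θ' + algebraMap ℚ A g * x + T) ^ k * (u + x) ^ (w - k)) =
      (∑ k ∈ Finset.range (N + 1), algebraMap ℚ A (1 / (k.factorial : ℚ)) *
        (θ' ^ k * u ^ (w + 1 - k))) -
      algebraMap ℚ A (1 / (N.factorial : ℚ)) * (θ' ^ N * T * u ^ (w - N)) -
      algebraMap ℚ A ((g - N) / (N.factorial : ℚ)) * (θ' ^ N * x * u ^ (w - N)) := by
    intro N
    induction N with
    | zero =>
      intro _
      simp only [zero_add, Finset.range_one, Finset.sum_singleton, Nat.factorial_zero, Nat.cast_one,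
        div_one, map_one, one_mul, pow_zero, Nat.sub_zero, Nat.cast_zero, sub_zero]
      rw [pow_add_sq_zero hx]
      rcases w with _ | w
      · simp
        ring
      · simp only [Nat.add_sub_cancel]
        rw [map_add]
        have e1 : algebraMap ℚ A ((w + 1 : ℕ) : ℚ) = ((w + 1 : ℕ) : A) := map_natCast _ _
        rw [e1]
        linear_combination (-(((w + 1 : ℕ) : A) + algebraMap ℚ A g) * ((w + 1 : ℕ) : A) * u ^ w) * hx -
          ((w + 1 : ℕ) : A) * u ^ w * hxT
    | succ N ih =>
      intro hN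
      rw [Finset.sum_range_succ, mul_add, ih (by omega), Finset.sum_range_succ _ (N + 1),
        pow_theta hx hxT hT]
      obtain ⟨v, hv⟩ : ∃ v, w = N + 1 + v := ⟨w - (N + 1), by omega⟩
      subst hv
      have s1 : N + 1 + v - N = v + 1 := by omega
      have s2 : N + 1 + v - (N + 1) = v := by omega
      have s3 : N + 1 + v + 1 - (N + 1) = v + 1 := by omega
      rw [s1, s2, s3, pow_add_sq_zero hx]
      set c : A := algebraMap ℚ A (1 / ((N + 1).factorial : ℚ)) with hc
      have f0 : ((N + 1).factorial : ℚ) ≠ 0 := by exact_mod_cast Nat.factorial_ne_zero _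
      have f1 : ((N + 1).factorial : ℚ) = (N + 1) * (N.factorial : ℚ) := by
        rw [Nat.factorial_succ]
        push_cast
        ring
      have f2 : (N.factorial : ℚ) ≠ 0 := by exact_mod_cast Nat.factorial_ne_zero _
      have f3 : ((N : ℚ) + 1) ≠ 0 := by positivity
      have c1 : algebraMap ℚ A (1 / (N.factorial : ℚ)) = ((N : A) + 1) * c := by
        rw [hc, show ((N : A) + 1) = algebraMap ℚ A (N + 1) by simp, ← map_mul]
        congr 1
        rw [f1]
        field_simp
      have c2 : algebraMap ℚ A ((g - N) / (N.factorial : ℚ)) =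
          ((N : A) + 1) * (algebraMap ℚ A g - N) * c := by
        rw [hc, show ((N : A) + 1) = algebraMap ℚ A (N + 1) by simp,
          show (N : A) = algebraMap ℚ A N by simp, ← map_sub, ← map_mul, ← map_mul]
        congr 1
        rw [f1]
        field_simp
      have c3 : algebraMap ℚ A ((g - ((N + 1 : ℕ) : ℚ)) / ((N + 1).factorial : ℚ)) =
          (algebraMap ℚ A g - (N + 1)) * c := by
        rw [hc, show ((N : A) + 1) = algebraMap ℚ A (N + 1) by simp, ← map_sub, ← map_mul]
        congr 1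
        push_cast
        field_simp
      have c4 : algebraMap ℚ A (((N + 1 + v : ℕ) : ℚ) + g) = (N + 1 + v : A) + algebraMap ℚ A g := by
        rw [map_add]
        push_cast
        simp
      have c5 : algebraMap ℚ A ((N : ℚ) + 1) = (N : A) + 1 := by simp
      have c6 : algebraMap ℚ A (((N : ℚ) + 1) * (g - N)) = ((N : A) + 1) * (algebraMap ℚ A g - N) := by
        simp
      rw [c1, c2, c3, c4, c5, c6]
      set G : A := algebraMap ℚ A g with hG
      rcases v with _ | v
      · simp only [Nat.cast_zero, add_zero, zero_add, pow_zero, pow_one, zero_mul, mul_one]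
        linear_combination (-c * (N + 1 + G) * ((N + 1) * (G - N) * θ' ^ N)) * hx +
          (-c * (N + 1 + G) * ((N + 1) * θ' ^ N) - c * ((N + 1) * (G - N) * θ' ^ N)) * hxT +
          (-c * ((N + 1) * θ' ^ N)) * hT
      · simp only [Nat.add_sub_cancel]
        push_cast
        linear_combination (c * ((u - (N + 1 + (v + 1) + G) * x - T) * ((v + 1) *
              ((N + 1) * (G - N) * θ' ^ N) * u ^ v)) -
            c * (N + 1 + (v + 1) + G) * ((N + 1) * (G - N) * θ' ^ N) * u ^ (v + 1) -
            c * (N + 1 + (v + 1) + G) * (v + 1) * θ' ^ (N + 1) * u ^ v) * hx +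
          (c * ((u - (N + 1 + (v + 1) + G) * x - T) * ((v + 1) * ((N + 1) * θ' ^ N) * u ^ v)) -
            c * (N + 1 + (v + 1) + G) * ((N + 1) * θ' ^ N) * u ^ (v + 1) -
            c * ((N + 1) * (G - N) * θ' ^ N) * u ^ (v + 1) -
            c * (v + 1) * θ' ^ (N + 1) * u ^ v) * hxT +
          (-c * ((N + 1) * θ' ^ N) * u ^ (v + 1)) * hT
  have h1 := key a haw
  rw [hθ] at h1
  simpa [E] using h1

end Algebra

end Groth.Agent.VBCurve.K323.TautNum
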