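import Groth.Agent.VBCurve.K323.TautNum

/-!
# The numerical relations between points and diagonals on the powers of a curve
-/

set_option autoImplicit false

open MvPolynomial

namespace Groth.Agent.VBCurve.K323.TautNum

namespace Num

variable {κ : ℚ} (D : Num κ)

/-- The numerically trivial polynomials at level `m`. -/
def N (m : ℕ) : Ideal R where
  carrier := {r | ∀ q, D.I m (r * q) = 0}
  add_mem' := by
    intro a b ha hb q
    rw [add_mul, map_add, ha q, hb q, add_zero]
  zero_mem' := by
    intro q
    rw [zero_mul, map_zero]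
  smul_mem' := by
    intro c x hx q
    rw [smul_eq_mul, mul_comm c x, mul_assoc]
    exact hx _

theorem mem_N {m : ℕ} {r : R} : r ∈ D.N m ↔ ∀ q, D.I m (r * q) = 0 := Iff.rfl

theorem low' {m : ℕ} {P : R} (hP : P ∈ Low m) : D.I (m + 1) P = 0 :=
  D.low m P (Low.vars hP)

theorem monomial_cases (m : ℕ) (s : V →₀ ℕ) :
    (∀ v ∈ s.support, top v < m) ∨ (∃ v ∈ s.support, m < top v ∨ Bad v) ∨
      (∃ v ∈ s.support, v = .inl m ∨ ∃ i, i < m ∧ v = .inr (i, m)) := by
  by_cases h1 : ∀ v ∈ s.support, top v < m
  · exact Or.inl h1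
  push Not at h1
  obtain ⟨v, hv, hv'⟩ := h1
  rcases lt_or_eq_of_le hv' with h2 | h2
  · exact Or.inr (Or.inl ⟨v, hv, Or.inl h2⟩)
  · rcases v with i | ⟨i, j⟩
    · refine Or.inr (Or.inr ⟨_, hv, Or.inl ?_⟩)
      rw [h2]
      rfl
    · by_cases hb : j ≤ i
      · exact Or.inr (Or.inl ⟨_, hv, Or.inr hb⟩)
      · refine Or.inr (Or.inr ⟨_, hv, Or.inr ⟨i, ?_, ?_⟩⟩)
        · rw [h2]
          change i < max i j
          rw [max_eq_right (by omega)]
          omega
        · have : m = j := by
            rw [h2]
            change max i j = j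
            exact max_eq_right (by omega)
          rw [this]

theorem monomial_split (s : V →₀ ℕ) (c : ℚ) (v : V) (hv : v ∈ s.support) :
    monomial s c = (X v : R) * monomial (s - Finsupp.single v 1) c := by
  rw [X, monomial_mul, one_mul]
  congr 1
  rw [add_comm, tsub_add_cancel_of_le]
  rw [Finsupp.single_le_iff]
  exact Nat.one_le_iff_ne_zero.mpr (Finsupp.mem_support_iff.mp hv)

theorem monomial_low (m : ℕ) (s : V →₀ ℕ) (c : ℚ) (hs : ∀ v ∈ s.support, top v < m) :
    (monomial s c : R) ∈ Low m := by
  apply low_of_vars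
  intro v hv
  by_cases hc : c = 0
  · rw [hc] at hv
    simp at hv
  · rw [vars_monomial hc] at hv
    exact hs v hv

theorem mem_N_succ {m : ℕ} {r : R} (h1 : ∀ q ∈ Low m, D.I (m + 1) (r * q) = 0)
    (h2 : ptSub m r ∈ D.N m) (h3 : ∀ j, j < m → dgSub κ m j r ∈ D.N m) : r ∈ D.N (m + 1) := by
  intro q
  induction q using MvPolynomial.induction_on' with
  | add p q hp hq => rw [mul_add, map_add, hp, hq, add_zero]
  | monomial s c =>
    rcases monomial_cases m s with h | ⟨v, hv, h⟩ | ⟨v, hv, h⟩
    · exact h1 _ (monomial_low m s c h)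
    · rw [monomial_split s c v hv, mul_left_comm]
      refine D.oor _ _ _ ?_
      rcases h with h | h
      · exact Or.inl h
      · exact Or.inr h
    · rw [monomial_split s c v hv, mul_left_comm]
      rcases h with rfl | ⟨i, hi, rfl⟩
      · have := D.pt m (r * monomial (s - Finsupp.single (Sum.inl m) 1) c)
        rw [map_mul (ptSub m)] at this
        exact this.trans (h2 _)
      · have := D.dg m i (r * monomial (s - Finsupp.single (Sum.inr (i, m)) 1) c) hi
        rw [δ, min_eq_left hi.le, max_eq_right hi.le, map_mul (dgSub κ m i)] at this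
        exact this.trans (h3 i hi _)

/-- pull-back of relations -/
theorem N_low {m : ℕ} {r : R} (hr : r ∈ D.N m) (hl : r ∈ Low m) : r ∈ D.N (m + 1) := by
  refine D.mem_N_succ (fun q hq => D.low' (mul_mem hl hq)) ?_ ?_
  · rwa [ptSub_low hl]
  · intro j _
    rwa [dgSub_low κ j hl]

theorem I_pt_low {m : ℕ} {q : R} (hq : q ∈ Low m) : D.I (m + 1) (h m * q) = D.I m q := by
  rw [D.pt, ptSub_low hq]

theorem I_dg_low {m j : ℕ} (hj : j < m) {q : R} (hq : q ∈ Low m) :
    D.I (m + 1) (δ j m * q) = D.I m q := by
  rw [D.dg _ _ _ hj, dgSub_low κ j hq]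

theorem I_homog_of_monomial {m : ℕ}
    (main : ∀ (s : V →₀ ℕ) (c : ℚ), s.degree ≠ m → D.I m (monomial s c) = 0)
    (d : ℕ) (P : R) (hP : P.IsHomogeneous d) (hd : d ≠ m) : D.I m P = 0 := by
  rw [P.as_sum, map_sum]
  refine Finset.sum_eq_zero fun s hs => main s _ ?_
  have h1 := hP (mem_support_iff.mp hs)
  have e : s.degree = d := by
    rw [← h1]
    exact DFunLike.congr_fun (Finsupp.degree_eq_weight_one (R := ℕ)) s
  rw [e]
  exact hd

theorem isHomogeneous_h (i : ℕ) : (h i).IsHomogeneous 1 := isHomogeneous_X _ _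

theorem isHomogeneous_δ (i j : ℕ) : (δ i j).IsHomogeneous 1 := isHomogeneous_X _ _

theorem isHomogeneous_ptSub {m d : ℕ} {P : R} (hP : P.IsHomogeneous d) :
    (ptSub m P).IsHomogeneous d := by
  have := hP.aeval (n := 1) (fun v => match v with
    | .inl i => if i = m then (0 : R) else X (.inl i)
    | .inr p => if p.2 = m then h p.1 else X (.inr p)) (by
      rintro (i | ⟨i, j⟩)
      · dsimp only
        split_ifs
        · exact isHomogeneous_zero _ _ _
        · exact isHomogeneous_X _ _
      · dsimp only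
        split_ifs
        · exact isHomogeneous_X _ _
        · exact isHomogeneous_X _ _)
  rw [one_mul] at this
  exact this

theorem isHomogeneous_dgSub {m j d : ℕ} {P : R} (hP : P.IsHomogeneous d) :
    (dgSub κ m j P).IsHomogeneous d := by
  have := hP.aeval (n := 1) (fun v => match v with
    | .inl i => if i = m then h j else X (.inl i)
    | .inr p => if p.2 = m then (if p.1 = j then C κ * h j else δ p.1 j) else X (.inr p)) (by
      rintro (i | ⟨i, l⟩)
      · dsimp only
        split_ifs
        · exact isHomogeneous_X _ _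
        · exact isHomogeneous_X _ _
      · dsimp only
        split_ifs
        · exact isHomogeneous_C_mul_X _ _
        · exact isHomogeneous_X _ _
        · exact isHomogeneous_X _ _)
  rw [one_mul] at this
  exact this

/-- homogeneous polynomials of the wrong degree have number zero -/
theorem I_homog (m : ℕ) : ∀ (d : ℕ) (P : R), P.IsHomogeneous d → d ≠ m → D.I m P = 0 := by
  induction m with
  | zero =>
    refine D.I_homog_of_monomial fun s c hs => ?_
    obtain ⟨v, hv⟩ : ∃ v, v ∈ s.support := by
      by_contra hcon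
      push Not at hcon
      apply hs
      rw [Finsupp.degree_apply]
      exact Finset.sum_eq_zero fun v hv => (hcon v hv).elim
    rw [monomial_split s c v hv]
    exact D.oor _ _ _ (Or.inl (Nat.zero_le _))
  | succ m ih =>
    refine D.I_homog_of_monomial fun s c hs => ?_
    rcases monomial_cases m s with h' | ⟨v, hv, h'⟩ | ⟨v, hv, h'⟩
    · exact D.low' (monomial_low m s c h')
    · rw [monomial_split s c v hv]
      refine D.oor _ _ _ ?_
      rcases h' with h' | h'
      · exact Or.inl h'
      · exact Or.inr h'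
    · have hdeg : (s - Finsupp.single v 1).degree + 1 = s.degree := by
        have h1 : s = (s - Finsupp.single v 1) + Finsupp.single v 1 := by
          rw [tsub_add_cancel_of_le]
          rw [Finsupp.single_le_iff]
          exact Nat.one_le_iff_ne_zero.mpr (Finsupp.mem_support_iff.mp hv)
        conv_rhs => rw [h1]
        rw [map_add, Finsupp.degree_single]
      have hhom : (monomial (s - Finsupp.single v 1) c : R).IsHomogeneous
          (s - Finsupp.single v 1).degree := isHomogeneous_monomial _ rfl
      have hne : (s - Finsupp.single v 1).degree ≠ m := by omega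
      rw [monomial_split s c v hv]
      rcases h' with rfl | ⟨i, hi, rfl⟩
      · exact (D.pt m _).trans (ih _ _ (isHomogeneous_ptSub hhom) hne)
      · have := D.dg m i (monomial (s - Finsupp.single (Sum.inr (i, m)) 1) c) hi
        rw [δ, min_eq_left hi.le, max_eq_right hi.le] at this
        exact this.trans (ih _ _ (isHomogeneous_dgSub hhom) hne)

theorem mem_N_of_degree {m d : ℕ} {P : R} (hP : P.IsHomogeneous d) (hd : m < d) : P ∈ D.N m := by
  intro q
  induction q using MvPolynomial.induction_on' with
  | add p q hp hq => rw [mul_add, map_add, hp, hq, add_zero]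
  | monomial s c =>
    exact D.I_homog m _ _ (hP.mul (isHomogeneous_monomial c rfl)) (by omega)

/-! ### Relations -/

/-- the class `h_i + h_j - δ_ij` -/
noncomputable def τ (i j : ℕ) : R := h i + h j - δ i j

theorem τ_comm (i j : ℕ) : τ i j = τ j i := by
  rw [τ, τ, δ_comm i j, add_comm (h i)]

theorem τ_low {m i j : ℕ} (hi : i < m) (hj : j < m) : τ i j ∈ Low m :=
  sub_mem (add_mem (h_low hi) (h_low hj)) (δ_low hi hj)

theorem ptSub_τ_last {m i : ℕ} (hi : i < m) : ptSub m (τ i m) = 0 := by
  rw [τ, map_sub, map_add, ptSub_h_self, ptSub_δ_self m i hi, ptSub_h m i hi.ne]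
  ring

theorem dgSub_τ_last {m j i : ℕ} (hi : i < m) (hij : i ≠ j) :
    dgSub κ m j (τ i m) = τ i j := by
  rw [τ, map_sub, map_add, dgSub_h_self, dgSub_δ_last κ m j i hi hij, dgSub_h κ m j i hi.ne, τ]

theorem dgSub_τ_self {m j : ℕ} (hj : j < m) :
    dgSub κ m j (τ j m) = C (2 - κ) * h j := by
  rw [τ, map_sub, map_add, dgSub_h_self, dgSub_δ_self κ m j hj, dgSub_h κ m j j hj.ne, C_sub]
  rw [show (C (2 : ℚ) : R) = 2 from rfl]
  ring

theorem ptSub_τ {m i j : ℕ} (hi : i < m) (hj : j < m) : ptSub m (τ i j) = τ i j :=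
  ptSub_low (τ_low hi hj)

theorem dgSub_τ {m i j l : ℕ} (hi : i < m) (hl : l < m) : dgSub κ m j (τ i l) = τ i l :=
  dgSub_low κ j (τ_low hi hl)

end Num

end Groth.Agent.VBCurve.K323.TautNum
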