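import Groth.Agent.VBCurve.K323.TautMain

/-!
# Evaluation of the top number
-/

set_option autoImplicit false

open MvPolynomial

namespace Groth.Agent.VBCurve.K323.TautNum

namespace Num

theorem choose_rec (g k : ℕ) :
    ((k : ℚ) + 1) * (g.choose (k + 1)) = (g - k) * g.choose k := by
  rcases le_or_gt k g with hk | hk
  · have h1 := Nat.choose_succ_right_eq g k
    have h2 : ((g.choose (k + 1) * (k + 1) : ℕ) : ℚ) = ((g.choose k * (g - k) : ℕ) : ℚ) := by
      rw [h1]
    push_cast [Nat.cast_sub hk] at h2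
    linear_combination h2
  · rw [Nat.choose_eq_zero_of_lt hk, Nat.choose_eq_zero_of_lt (by omega)]
    simp

/-- pushing forward one step -/
theorem I_step {g : ℚ} (D : Num (2 - 2 * g)) (m k r : ℕ) :
    D.I (m + 1) (θ g (m + 1) ^ (k + 1) * H (m + 1) ^ (r + 1)) =
      (k + 1) * (g - k) * D.I m (θ g m ^ k * H m ^ (r + 1)) +
      (r + 1) * D.I m (θ g m ^ (k + 1) * H m ^ r) := by
  have hx : Ideal.Quotient.mk (D.N (m + 1)) (h m) * Ideal.Quotient.mk (D.N (m + 1)) (h m) = 0 := by
    rw [← map_mul]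
    exact Ideal.Quotient.eq_zero_iff_mem.mpr (D.hh _ _ (by omega))
  have hxT : Ideal.Quotient.mk (D.N (m + 1)) (h m) * Ideal.Quotient.mk (D.N (m + 1)) (T m) =
      0 := by
    rw [← map_mul]
    exact Ideal.Quotient.eq_zero_iff_mem.mpr (D.hT_mem m)
  have hT : Ideal.Quotient.mk (D.N (m + 1)) (T m) * Ideal.Quotient.mk (D.N (m + 1)) (T m) =
      -2 * (Ideal.Quotient.mk (D.N (m + 1)) (h m) *
        Ideal.Quotient.mk (D.N (m + 1)) (θ g m)) := by
    have := Ideal.Quotient.eq_zero_iff_mem.mpr (D.TT_mem m)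
    rw [map_add, map_mul, map_mul, map_mul, map_ofNat] at this
    linear_combination this
  have key := pow_theta hx hxT hT g k
  have hH := pow_add_sq_zero (u := Ideal.Quotient.mk (D.N (m + 1)) (H m)) hx (r + 1)
  have e0 : ∀ c : ℚ, algebraMap ℚ (R ⧸ D.N (m + 1)) c = Ideal.Quotient.mk _ (C c) := fun _ => rfl
  have hmem : θ g (m + 1) ^ (k + 1) * H (m + 1) ^ (r + 1) -
      (θ g m ^ (k + 1) * H m ^ (r + 1) +
        T m * (C ((k : ℚ) + 1) * θ g m ^ k * H m ^ (r + 1)) +
        h m * (C ((k + 1) * (g - k)) * θ g m ^ k * H m ^ (r + 1) +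
          C ((r : ℚ) + 1) * θ g m ^ (k + 1) * H m ^ r)) ∈ D.N (m + 1) := by
    rw [← Ideal.Quotient.eq_zero_iff_mem]
    rw [show θ g (m + 1) = θ g m + C g * h m + T m from rfl, H_succ]
    simp only [map_sub, map_mul, map_pow, map_add, ← e0] at key hH ⊢
    rw [key, hH]
    have e1 : (((r + 1 : ℕ) : R ⧸ D.N (m + 1))) = algebraMap ℚ (R ⧸ D.N (m + 1)) (r : ℚ) +
        algebraMap ℚ (R ⧸ D.N (m + 1)) 1 := by
      rw [map_natCast, map_one]
      push_cast
      rfl
    rw [e1, Nat.add_sub_cancel]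
    set x := Ideal.Quotient.mk (D.N (m + 1)) (h m)
    set t := Ideal.Quotient.mk (D.N (m + 1)) (T m)
    set θ' := Ideal.Quotient.mk (D.N (m + 1)) (θ g m)
    set y := Ideal.Quotient.mk (D.N (m + 1)) (H m)
    set q := algebraMap ℚ (R ⧸ D.N (m + 1))
    linear_combination ((q k + q 1) * θ' ^ k * (q r + q 1) * y ^ r) * hxT +
      ((q k + q 1) * (q g - q k) * θ' ^ k * (q r + q 1) * y ^ r) * hx
  rw [D.I_eq_of_sub_mem hmem, map_add, map_add]
  have hl : ∀ i, θ g m ^ i ∈ Low m := fun i => pow_mem (θ_low g m) i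
  have hl' : ∀ i, H m ^ i ∈ Low m := fun i => pow_mem (H_low m) i
  have hC : ∀ c : ℚ, (C c : R) ∈ Low m := fun c => Subalgebra.algebraMap_mem _ _
  have hTl : ∀ q ∈ Low m, D.I (m + 1) (T m * q) = 0 := by
    intro q hq
    rw [T, Finset.sum_mul, map_sum]
    exact Finset.sum_eq_zero fun i hi => D.I_τ_low (Finset.mem_range.mp hi) hq
  rw [D.low' (mul_mem (hl _) (hl' _)), hTl _ (mul_mem (mul_mem (hC _) (hl _)) (hl' _)),
    D.I_pt_low (add_mem (mul_mem (mul_mem (hC _) (hl _)) (hl' _))
      (mul_mem (mul_mem (hC _) (hl _)) (hl' _))), map_add, mul_assoc (C _), mul_assoc (C _),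
    ← smul_eq_C_mul, ← smul_eq_C_mul, map_smul, map_smul, smul_eq_mul, smul_eq_mul]
  ring

theorem I_step_H {g : ℚ} (D : Num (2 - 2 * g)) (m r : ℕ) :
    D.I (m + 1) (H (m + 1) ^ (r + 1)) = (r + 1) * D.I m (H m ^ r) := by
  have hx : Ideal.Quotient.mk (D.N (m + 1)) (h m) * Ideal.Quotient.mk (D.N (m + 1)) (h m) = 0 := by
    rw [← map_mul]
    exact Ideal.Quotient.eq_zero_iff_mem.mpr (D.hh _ _ (by omega))
  have hH := pow_add_sq_zero (u := Ideal.Quotient.mk (D.N (m + 1)) (H m)) hx (r + 1)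
  have e0 : ∀ c : ℚ, algebraMap ℚ (R ⧸ D.N (m + 1)) c = Ideal.Quotient.mk _ (C c) := fun _ => rfl
  have hmem : H (m + 1) ^ (r + 1) - (H m ^ (r + 1) + h m * (C ((r : ℚ) + 1) * H m ^ r)) ∈
      D.N (m + 1) := by
    rw [← Ideal.Quotient.eq_zero_iff_mem, H_succ]
    simp only [map_sub, map_mul, map_pow, map_add, ← e0] at hH ⊢
    rw [hH]
    have e1 : (((r + 1 : ℕ) : R ⧸ D.N (m + 1))) = algebraMap ℚ (R ⧸ D.N (m + 1)) (r : ℚ) +
        algebraMap ℚ (R ⧸ D.N (m + 1)) 1 := by
      rw [map_natCast, map_one]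
      push_cast
      rfl
    rw [e1, Nat.add_sub_cancel]
    ring
  have hl' : ∀ i, H m ^ i ∈ Low m := fun i => pow_mem (H_low m) i
  have hC : ∀ c : ℚ, (C c : R) ∈ Low m := fun c => Subalgebra.algebraMap_mem _ _
  rw [D.I_eq_of_sub_mem hmem, map_add, D.low' (hl' _), D.I_pt_low (mul_mem (hC _) (hl' _)),
    ← smul_eq_C_mul, map_smul, smul_eq_mul, zero_add]

theorem I_step_θ {g : ℚ} (D : Num (2 - 2 * g)) (m k : ℕ) :
    D.I (m + 1) (θ g (m + 1) ^ (k + 1)) = (k + 1) * (g - k) * D.I m (θ g m ^ k) := by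
  have hx : Ideal.Quotient.mk (D.N (m + 1)) (h m) * Ideal.Quotient.mk (D.N (m + 1)) (h m) = 0 := by
    rw [← map_mul]
    exact Ideal.Quotient.eq_zero_iff_mem.mpr (D.hh _ _ (by omega))
  have hxT : Ideal.Quotient.mk (D.N (m + 1)) (h m) * Ideal.Quotient.mk (D.N (m + 1)) (T m) =
      0 := by
    rw [← map_mul]
    exact Ideal.Quotient.eq_zero_iff_mem.mpr (D.hT_mem m)
  have hT : Ideal.Quotient.mk (D.N (m + 1)) (T m) * Ideal.Quotient.mk (D.N (m + 1)) (T m) =
      -2 * (Ideal.Quotient.mk (D.N (m + 1)) (h m) *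
        Ideal.Quotient.mk (D.N (m + 1)) (θ g m)) := by
    have := Ideal.Quotient.eq_zero_iff_mem.mpr (D.TT_mem m)
    rw [map_add, map_mul, map_mul, map_mul, map_ofNat] at this
    linear_combination this
  have key := pow_theta hx hxT hT g k
  have e0 : ∀ c : ℚ, algebraMap ℚ (R ⧸ D.N (m + 1)) c = Ideal.Quotient.mk _ (C c) := fun _ => rfl
  have hmem : θ g (m + 1) ^ (k + 1) - (θ g m ^ (k + 1) + T m * (C ((k : ℚ) + 1) * θ g m ^ k) +
        h m * (C ((k + 1) * (g - k)) * θ g m ^ k)) ∈ D.N (m + 1) := by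
    rw [← Ideal.Quotient.eq_zero_iff_mem]
    rw [show θ g (m + 1) = θ g m + C g * h m + T m from rfl]
    simp only [map_sub, map_mul, map_pow, map_add, ← e0] at key ⊢
    rw [key]
    ring
  have hl : ∀ i, θ g m ^ i ∈ Low m := fun i => pow_mem (θ_low g m) i
  have hC : ∀ c : ℚ, (C c : R) ∈ Low m := fun c => Subalgebra.algebraMap_mem _ _
  have hTl : ∀ q ∈ Low m, D.I (m + 1) (T m * q) = 0 := by
    intro q hq
    rw [T, Finset.sum_mul, map_sum]
    exact Finset.sum_eq_zero fun i hi => D.I_τ_low (Finset.mem_range.mp hi) hq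
  rw [D.I_eq_of_sub_mem hmem, map_add, map_add, D.low' (hl _), hTl _ (mul_mem (hC _) (hl _)),
    D.I_pt_low (mul_mem (hC _) (hl _)), ← smul_eq_C_mul, map_smul, smul_eq_mul]
  ring

/-- the numbers of `θ^k H^r` -/
theorem I_eval (g : ℕ) (D : Num (2 - 2 * (g : ℚ))) (m : ℕ) : ∀ k r, k + r = m →
    D.I m (θ (g : ℚ) m ^ k * H m ^ r) = k.factorial * m.factorial * g.choose k := by
  induction m with
  | zero =>
    intro k r hkr
    obtain ⟨rfl, rfl⟩ : k = 0 ∧ r = 0 := by omega
    simp [D.one]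
  | succ m ih =>
    intro k r hkr
    rcases k with _ | k
    · obtain rfl : r = m + 1 := by omega
      rw [pow_zero, one_mul, D.I_step_H]
      have := ih 0 m (by omega)
      rw [pow_zero, one_mul] at this
      rw [this, Nat.factorial_succ m]
      push_cast
      simp
    · rcases r with _ | r
      · obtain rfl : k = m := by omega
        rw [pow_zero, mul_one, D.I_step_θ]
        have := ih k 0 (by omega)
        rw [pow_zero, mul_one] at this
        have hc := choose_rec g k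
        rw [this, Nat.factorial_succ k]
        push_cast
        linear_combination (-(k + 1) * k.factorial * k.factorial : ℚ) * hc
      · rw [D.I_step, ih k (r + 1) (by omega), ih (k + 1) r (by omega)]
        have hc := choose_rec g k
        have hm : (m : ℚ) = k + (r + 1) := by
          exact_mod_cast (show m = k + (r + 1) by omega)
        rw [Nat.factorial_succ k, Nat.factorial_succ m]
        push_cast
        rw [hm]
        linear_combination (-(k + 1) * k.factorial * m.factorial : ℚ) * hc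

/-- **The top number**: the degree `a` part of `∏ i < a, 1 / (1 - n h i + ∑ l < i, δ l i)` has
number `a! * 2 ^ g`, `n = 2 a + g - 1`. -/
theorem topNumber (g a : ℕ) (hga : g ≤ a) (n : ℚ) (hn : n + 1 = 2 * a + g)
    (D : Num (2 - 2 * (g : ℚ))) :
    D.I a (∏ i ∈ Finset.range a, ∑ j ∈ Finset.range (a + 1),
      (C n * h i - ∑ l ∈ Finset.range i, δ l i) ^ j) = a.factorial * 2 ^ g := by
  have h1 := D.prod_E_mem a (2 * a) le_rfl n (by push_cast; exact hn) a le_rfl
  rw [show 2 * a - a = a by omega] at h1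
  have h2 := D.prod_L_mul_sum_mem a n a
  rw [D.I_eq_of_sub_mem (D.sub_mem_of_prod h2 h1), E, map_sum]
  have hterm : ∀ k ∈ Finset.range (a + 1), D.I a (algebraMap ℚ R (1 / (k.factorial : ℚ)) *
      (θ (g : ℚ) a ^ k * (1 + H a) ^ (a - k))) = a.factorial * g.choose k := by
    intro k hk
    have hk' : k ≤ a := by
      have := Finset.mem_range.mp hk
      omega
    have h3 : D.I a (θ (g : ℚ) a ^ k * (1 + H a) ^ (a - k)) =
        D.I a (θ (g : ℚ) a ^ k * H a ^ (a - k)) := by
      rw [add_comm 1 (H a), add_pow, Finset.mul_sum, map_sum, Finset.sum_range_succ]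
      rw [Finset.sum_eq_zero, zero_add]
      · simp
      · intro j hj
        have hj' := Finset.mem_range.mp hj
        have hom : (θ (g : ℚ) a ^ k * (H a ^ j * 1 ^ (a - k - j) *
            ((a - k).choose j : R))).IsHomogeneous (k + j) := by
          have e1 := (isHomogeneous_θ (g : ℚ) a).pow k
          have e2 := (isHomogeneous_H a).pow j
          rw [one_mul] at e1 e2
          have e3 : (((a - k).choose j : R)).IsHomogeneous 0 := by
            have := isHomogeneous_C V ((a - k).choose j : ℚ)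
            simpa using this
          rw [one_pow, mul_one]
          exact e1.mul (by simpa using e2.mul e3)
        exact D.I_homog a _ _ hom (by omega)
    rw [show algebraMap ℚ R (1 / (k.factorial : ℚ)) = C (1 / (k.factorial : ℚ)) from rfl,
      ← smul_eq_C_mul, map_smul, h3, I_eval g D a k (a - k) (by omega), smul_eq_mul]
    have : (k.factorial : ℚ) ≠ 0 := by exact_mod_cast Nat.factorial_ne_zero _
    field_simp
  rw [Finset.sum_congr rfl hterm, ← Finset.mul_sum]
  congr 1
  have hsub : ∑ k ∈ Finset.range (a + 1), g.choose k = ∑ k ∈ Finset.range (g + 1), g.choose k := by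
    refine (Finset.sum_subset (Finset.range_mono (by omega)) fun k _ hk => ?_).symm
    refine Nat.choose_eq_zero_of_lt ?_
    by_contra hcon
    exact hk (Finset.mem_range.mpr (by omega))
  exact_mod_cast hsub.trans (Nat.sum_range_choose g)

end Num

end Groth.Agent.VBCurve.K323.TautNum
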